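import Cfsg.Agent.SLMult.Main
import Cfsg.Agent.CurtisTitsD.El

/-!
Lifts of homomorphisms from perfect groups with trivial multiplier along central extensions, and the
lifts of the linear subgroups of the split orthogonal group.
-/

set_option autoImplicit false

open Matrix
open scoped commutatorElement MatrixGroups

namespace Cfsg.Agent.DMult

open Chev.Ortho CurtisTitsD
open SLMult (tx)

universe u

theorem br_indep {G Q : Type*} [Group G] [Group Q] {σ : G →* Q} (hc : σ.ker ≤ Subgroup.center G)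
    {A A' B B' : G} (hA : σ A = σ A') (hB : σ B = σ B') : ⁅A, B⁆ = ⁅A', B'⁆ := by
  obtain ⟨z, hz, rfl⟩ : ∃ z, z ∈ Subgroup.center G ∧ A = A' * z :=
    ⟨A'⁻¹ * A, hc (by rw [MonoidHom.mem_ker, map_mul, map_inv, hA, inv_mul_cancel]), (mul_inv_cancel_left _ _).symm⟩
  obtain ⟨w, hw, rfl⟩ : ∃ w, w ∈ Subgroup.center G ∧ B = B' * w :=
    ⟨B'⁻¹ * B, hc (by rw [MonoidHom.mem_ker, map_mul, map_inv, hB, inv_mul_cancel]), (mul_inv_cancel_left _ _).symm⟩
  have cz := Subgroup.mem_center_iff.1 hz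
  have cw := Subgroup.mem_center_iff.1 hw
  simp only [commutatorElement_def, _root_.mul_inv_rev]
  calc A' * z * (B' * w) * (z⁻¹ * A'⁻¹) * (w⁻¹ * B'⁻¹)
      = A' * (z * (B' * w)) * z⁻¹ * A'⁻¹ * (w⁻¹ * B'⁻¹) := by group
    _ = A' * B' * (w * A'⁻¹) * (w⁻¹ * B'⁻¹) := by rw [← cz]; group
    _ = A' * B' * A'⁻¹ * B'⁻¹ := by rw [← cw]; group

/-- A homomorphism from a perfect group with trivial multiplier lifts along a central extension. -/
theorem exists_lift {S Δ : Type u} {O : Type*} [Group S] [Finite S] [Group Δ] [Finite Δ] [Group O]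
    (hS : commutator S = ⊤) (hM : Cfsg.HasCyclicSchurMultiplier S 1) (σ : Δ →* O)
    (hc : σ.ker ≤ Subgroup.center Δ) (ψ : S →* O) (hψ : ψ.range ≤ σ.range) :
    ∃ f : S →* Δ, σ.comp f = ψ := by
  let P : Subgroup (S × Δ) := MonoidHom.eqLocus (ψ.comp (MonoidHom.fst S Δ)) (σ.comp (MonoidHom.snd S Δ))
  let q : P →* S := (MonoidHom.fst S Δ).comp P.subtype
  have hq : Function.Surjective q := fun s => by
    obtain ⟨d, hd⟩ := hψ ⟨s, rfl⟩
    exact ⟨⟨(s, d), hd.symm⟩, rfl⟩
  have hqc : q.ker ≤ Subgroup.center P := fun x hx => Subgroup.mem_center_iff.mpr fun y => by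
    have h1 : (x : S × Δ).1 = 1 := hx
    have h2 : σ (x : S × Δ).2 = 1 := by
      have e : ψ (x : S × Δ).1 = σ (x : S × Δ).2 := x.2
      rw [← e, h1, map_one]
    refine Subtype.ext (Prod.ext ?_ (Subgroup.mem_center_iff.mp (hc h2) (y : S × Δ).2))
    show (y : S × Δ).1 * (x : S × Δ).1 = (x : S × Δ).1 * (y : S × Δ).1
    rw [h1, mul_one, one_mul]
  set D := commutator P
  let qD : D →* S := q.comp D.subtype
  have hDs : Function.Surjective qD := fun s => by
    have h : s ∈ D.map q := by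
      rw [show D = commutator P from rfl, commutator_def, Subgroup.map_commutator,
        Subgroup.map_top_of_surjective q hq, ← commutator_def, hS]
      exact Subgroup.mem_top _
    obtain ⟨d, hd, e⟩ := h
    exact ⟨⟨d, hd⟩, e⟩
  have hperf : D ≤ (commutator D).map D.subtype := by
    show commutator P ≤ _
    rw [commutator_def, Subgroup.commutator_le]
    intro a _ b _
    obtain ⟨a', ha'⟩ := hDs (q a)
    obtain ⟨b', hb'⟩ := hDs (q b)
    refine ⟨⁅a', b'⁆, Subgroup.commutator_mem_commutator (Subgroup.mem_top _) (Subgroup.mem_top _), ?_⟩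
    rw [map_commutatorElement]
    exact br_indep (σ := q) hqc (show q (a' : P) = q a from ha') (show q (b' : P) = q b from hb')
  have hstem : Cfsg.IsStemExtension qD :=
    ⟨hDs, fun x hx => Subgroup.mem_center_iff.mpr fun y =>
      Subtype.ext (Subgroup.mem_center_iff.mp (hqc hx) y), fun x _ => by
      obtain ⟨y, hy, e⟩ := hperf x.2
      rwa [← show y = x from Subtype.ext e]⟩
  have hbot := ProjExt.Stem.ker_eq_bot_of_trivial hM D qD hstem
  let eq := MulEquiv.ofBijective qD ⟨(MonoidHom.ker_eq_bot_iff qD).mp hbot, hDs⟩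
  refine ⟨((MonoidHom.snd S Δ).comp (P.subtype.comp D.subtype)).comp eq.symm.toMonoidHom,
    MonoidHom.ext fun s => ?_⟩
  have h1 : ((eq.symm s : P) : S × Δ).1 = s := eq.apply_symm_apply s
  have h2 : ψ ((eq.symm s : P) : S × Δ).1 = σ ((eq.symm s : P) : S × Δ).2 := (eq.symm s : P).2
  rw [h1] at h2
  exact h2.symm

variable (F : Type u) [Field F] (n : ℕ) (Γ : Type u) [Group Γ]

/-- A system of lifts of the root elements obeying the Steinberg relations. -/
def HasSys (σ : Γ →* OG F n) : Prop :=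
  ∃ X : Fin n ⊕ Fin n → Fin n ⊕ Fin n → F → Γ,
    (∀ (a b : Fin n ⊕ Fin n) (h : Ok a b) (t : F), σ (X a b t) = el h t) ∧
    (∀ a b, lev a ≠ lev b → ∀ t u, X a b (t + u) = X a b t * X a b u) ∧
    (∀ a b c d, lev a ≠ lev b → lev c ≠ lev d → bar b ≠ c → bar b ≠ d → bar a ≠ c → bar a ≠ d →
      ∀ t u, Commute (X a b t) (X c d u)) ∧
    ∀ a b c, lev a ≠ lev b → lev a ≠ lev c → lev c ≠ lev b → ∀ t u, ⁅X a (bar c) t, X c b u⁆ = X a b (t * u)

/-- A central extension whose image contains the root elements, with the conditions on `(n, |F|)`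
or a system of lifts with the Steinberg relations. -/
structure Ext where
  /-- The projection. -/
  σ : Γ →* OG F n
  central : σ.ker ≤ Subgroup.center Γ
  el_mem : ∀ (a b : Fin n ⊕ Fin n) (h : Ok a b) (t : F), el h t ∈ σ.range
  three : 3 ≤ n
  good : ((n = 4 → Nat.card F ≠ 2) ∧ (n = 3 → (2 : F) ≠ 0)) ∨ HasSys F n Γ σ

/-- A choice of one signed index at each level. -/
def IsSec {n : ℕ} (s : Fin n → Fin n ⊕ Fin n) : Prop := ∀ i, lev (s i) = (i : ℕ)

variable {F n Γ}

/-- The level as an index. -/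
def levF (a : Fin n ⊕ Fin n) : Fin n := Sum.elim id id a

theorem lev_levF (a : Fin n ⊕ Fin n) : (levF a : ℕ) = lev a := by cases a <;> rfl

theorem levF_bar (a : Fin n ⊕ Fin n) : levF (bar a) = levF a := Fin.ext (by simp [lev_levF, lev_bar])

theorem levF_eq {a : Fin n ⊕ Fin n} {i : Fin n} : levF a = i ↔ lev a = (i : ℕ) := by
  rw [← lev_levF, Fin.ext_iff]

theorem levF_ne {a b : Fin n ⊕ Fin n} : levF a ≠ levF b ↔ lev a ≠ lev b := by
  rw [← lev_levF a, ← lev_levF b, Ne, Fin.ext_iff]

theorem isSec_update {s : Fin n → Fin n ⊕ Fin n} (hs : IsSec s) (a : Fin n ⊕ Fin n) :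
    IsSec (Function.update s (levF a) a) := fun i => by
  by_cases h : i = levF a
  · subst h; simp [lev_levF]
  · simp [h, hs i]

/-- A section through prescribed signed indices of pairwise different levels. -/
theorem exists_sec (a b c d : Fin n ⊕ Fin n) :
    ∃ s, IsSec s ∧ s (levF a) = a ∧ (lev b ≠ lev a → s (levF b) = b) ∧
      (lev c ≠ lev a → lev c ≠ lev b → s (levF c) = c) ∧
      (lev d ≠ lev a → lev d ≠ lev b → lev d ≠ lev c → s (levF d) = d) := by
  refine ⟨Function.update (Function.update (Function.update (Function.update (fun i => .inl i)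
    (levF d) d) (levF c) c) (levF b) b) (levF a) a,
    isSec_update (isSec_update (isSec_update (isSec_update (fun i => rfl) _) _) _) _, by simp, ?_, ?_, ?_⟩
  · intro h; simp [levF_ne.2 h]
  · intro h h'; simp [levF_ne.2 h, levF_ne.2 h']
  · intro h h' h''; simp [levF_ne.2 h, levF_ne.2 h', levF_ne.2 h'']

theorem IsSec.lev_ne {s : Fin n → Fin n ⊕ Fin n} (hs : IsSec s) {i j : Fin n} (h : i ≠ j) :
    lev (s i) ≠ lev (s j) := by
  rw [hs, hs]; exact fun e => h (Fin.ext e)

theorem IsSec.ok {s : Fin n → Fin n ⊕ Fin n} (hs : IsSec s) {i j : Fin n} (h : i ≠ j) :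
    Ok (s i) (bar (s j)) :=
  ok_of_lev (by rw [lev_bar]; exact hs.lev_ne h)

theorem exists_third (E : Ext F n Γ) (a b : Fin n ⊕ Fin n) :
    ∃ d : Fin n ⊕ Fin n, lev d ≠ lev a ∧ lev d ≠ lev b := by
  obtain ⟨i, hi⟩ := SLMult.exists_index ({levF a, levF b} : Finset (Fin n)) Finset.card_le_two
    (by rw [Fintype.card_fin]; have := E.three; omega)
  simp only [Finset.mem_insert, Finset.mem_singleton, not_or] at hi
  exact ⟨.inl i, levF_ne.1 hi.1, levF_ne.1 hi.2⟩

theorem exists_fourth (h : 4 ≤ n) (a b c : Fin n ⊕ Fin n) :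
    ∃ d : Fin n ⊕ Fin n, lev d ≠ lev a ∧ lev d ≠ lev b ∧ lev d ≠ lev c := by
  obtain ⟨i, hi⟩ := SLMult.exists_index ({levF a, levF b, levF c} : Finset (Fin n)) Finset.card_le_three
    (by rw [Fintype.card_fin]; omega)
  simp only [Finset.mem_insert, Finset.mem_singleton, not_or] at hi
  exact ⟨.inl i, levF_ne.1 hi.1, levF_ne.1 hi.2.1, levF_ne.1 hi.2.2⟩

variable [Fintype F] [Finite Γ]

theorem exists_secLift (E : Ext F n Γ) {s : Fin n → Fin n ⊕ Fin n} (hs : IsSec s) :
    ∃ f : SpecialLinearGroup (Fin n) F →* Γ,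
      ∀ i j (h : i ≠ j) (t : F), E.σ (f (tx i j t)) = el (hs.ok h) t := by
  classical
  have hn : 3 ≤ n := E.three
  rcases E.good with hG | ⟨X, hσ, hadd, hcomm, hrel⟩
  swap
  · obtain ⟨f, hf⟩ := SteinbergSL.exists_hom (K := F) hn (fun i j t => X (s i) (bar (s j)) t)
      (fun i j h t u => hadd _ _ (by rw [lev_bar]; exact hs.lev_ne h) t u)
      (fun i j k l hij hkl hjk hil t u => by
        have key : ∀ r q : Fin n, r ≠ q → ∀ x, x = s q ∨ x = bar (s q) → s r ≠ x := fun r q hrq x hx e =>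
          hs.lev_ne hrq (by rcases hx with rfl | rfl <;> rw [e]; rw [lev_bar])
        refine hcomm _ _ _ _ (by rw [lev_bar]; exact hs.lev_ne hij) (by rw [lev_bar]; exact hs.lev_ne hkl)
          ?_ ?_ ?_ ?_ t u
        · rw [bar_bar]; exact key j k hjk _ (Or.inl rfl)
        · rw [bar_bar]
          intro e
          by_cases hjl : j = l
          · subst hjl; exact bar_ne (s j) e.symm
          · exact key j l hjl _ (Or.inr rfl) e
        · intro e
          by_cases hik : i = k
          · subst hik; exact bar_ne (s i) e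
          · exact key k i (Ne.symm hik) _ (Or.inr rfl) e.symm
        · exact fun e => key i l hil _ (Or.inl rfl) (bar_inj e))
      (fun i j k hij hjk hik t u => hrel _ _ _ (by rw [lev_bar]; exact hs.lev_ne hik) (hs.lev_ne hij)
        (by rw [lev_bar]; exact hs.lev_ne hjk) t u)
    exact ⟨f, fun i j h t => by rw [SLMult.tx_eq h, hf i j h, hσ _ _ (hs.ok h)]⟩
  obtain ⟨ψ, hψ⟩ := exists_lin (F := F) hn s (fun i j h => hs.lev_ne h)
  have hperf : commutator (SpecialLinearGroup (Fin n) F) = ⊤ :=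
    Classical.commutator_sl_eq_top (Or.inl (by rw [Fintype.card_fin]; exact hn))
  have hgood : SLMult.Good (Fin n) F := ⟨by rw [Fintype.card_fin]; exact hn,
    fun h => hG.1 (by rwa [Fintype.card_fin] at h), fun h => by
      rw [Fintype.card_fin] at h
      have h2 := hG.2 h
      have hodd : Fintype.card F % 2 = 1 := FiniteField.odd_card_of_char_ne_two fun h' => h2 (by
        have : CharP F 2 := h' ▸ ringChar.charP F
        exact CharTwo.two_eq_zero)
      rw [Nat.card_eq_fintype_card]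
      omega⟩
  have hrange : ψ.range ≤ E.σ.range := by
    rw [MonoidHom.range_eq_map, ← Classical.sl_eq_top_of_transvection (E.σ.range.comap ψ) fun i j hij c => ?_]
    · exact Subgroup.map_comap_le _ _
    · show ψ _ ∈ E.σ.range
      rw [← SLMult.tx_eq hij, hψ i j hij]
      exact E.el_mem _ _ _ _
  obtain ⟨f, hf⟩ := exists_lift hperf (SLMult.sl_multiplier_trivial (Or.inr hgood)) E.σ E.central ψ hrange
  exact ⟨f, fun i j h t => by rw [← MonoidHom.comp_apply, hf, hψ i j h]⟩

/-- The lift of the linear subgroup of a section. -/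
noncomputable def f (E : Ext F n Γ) {s : Fin n → Fin n ⊕ Fin n} (hs : IsSec s) :
    SpecialLinearGroup (Fin n) F →* Γ :=
  (exists_secLift E hs).choose

theorem σ_f (E : Ext F n Γ) {s : Fin n → Fin n ⊕ Fin n} (hs : IsSec s) {i j : Fin n} (h : i ≠ j)
    (t : F) : E.σ (f E hs (tx i j t)) = el (hs.ok h) t :=
  (exists_secLift E hs).choose_spec i j h t

end Cfsg.Agent.DMult
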