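import Cfsg.Agent.DMult.Spin
import Cfsg.Agent.Classical.OrthPOmega
import Cfsg.Agent.S0790

/-!
The Schur multiplier of `PΩ⁺(2n, q)`.
-/

set_option autoImplicit false
set_option linter.unusedSectionVars false
set_option linter.unusedSimpArgs false

open scoped commutatorElement

namespace Cfsg.Agent.DMult

open Chev.Ortho
open CurtisTitsD (ok_of_lev lev_ne_of_ok)

universe u

section Gen

variable {F : Type u} [Field F] [Fintype F] {n : ℕ} {Γ : Type u} [Group Γ] [Finite Γ]

local notation "I" => Fin n ⊕ Fin n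

/-- In a perfect group, an element central modulo the centre is central. -/
theorem mem_center_of_comm {G : Type*} [Group G] (hG : commutator G = ⊤) {x : G}
    (h : ∀ y, ⁅x, y⁆ ∈ Subgroup.center G) : x ∈ Subgroup.center G := by
  let φ : G →* Subgroup.center G := MonoidHom.mk' (fun y => ⟨⁅x, y⁆, h y⟩) fun y z => Subtype.ext (by
    show ⁅x, y * z⁆ = ⁅x, y⁆ * ⁅x, z⁆
    have e : ⁅x, y * z⁆ = ⁅x, y⁆ * (y * ⁅x, z⁆ * y⁻¹) := by simp only [commutatorElement_def]; group
    rw [e, Subgroup.mem_center_iff.1 (h z) y, mul_inv_cancel_right])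
  refine Subgroup.mem_center_iff.2 fun y => ?_
  have hy : y ∈ φ.ker := by
    have hle : commutator G ≤ φ.ker := by
      rw [commutator_def, Subgroup.commutator_le]
      intro a _ b _
      rw [MonoidHom.mem_ker, map_commutatorElement, commutatorElement_eq_one_iff_commute]
      exact Subtype.ext (Subgroup.mem_center_iff.1 (φ b).2 (φ a : G))
    exact hle (hG.ge (Subgroup.mem_top y))
  have e : ⁅x, y⁆ = 1 := congrArg Subtype.val (MonoidHom.mem_ker.1 hy)
  exact (commutatorElement_eq_one_iff_commute.1 e).symm.eq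

/-- In a perfect extension the lifted root elements generate. -/
theorem GX_eq_top (E : Ext F n Γ) (hP : commutator Γ = ⊤) (hr : E.σ.range ≤ Chev.Ortho.E F n 0) :
    GX E = ⊤ := by
  have hsplit : ∀ g : Γ, ∃ x ∈ GX E, E.σ g = E.σ x := fun g => by
    have hle : Chev.Ortho.E F n 0 ≤ (GX E).map E.σ := by
      rw [Chev.Ortho.E, Subgroup.closure_le]
      rintro _ ⟨a, b, h, t, -, -, rfl⟩
      exact ⟨X E a b t, X_mem_GX E (lev_ne_of_ok h) t, σ_X E h t⟩
    obtain ⟨x, hx, e⟩ := hle (hr ⟨g, rfl⟩)
    exact ⟨x, hx, e.symm⟩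
  refine top_le_iff.1 ?_
  rw [← hP, commutator_def, Subgroup.commutator_le]
  intro a _ b _
  obtain ⟨x, hx, ex⟩ := hsplit a
  obtain ⟨y, hy, ey⟩ := hsplit b
  rw [br_indep E.central ex ey, commutatorElement_def]
  exact mul_mem (mul_mem (mul_mem hx hy) (inv_mem hx)) (inv_mem hy)

variable {Γ' : Type u} [Group Γ'] [Finite Γ'] (E : Ext F n Γ) (E' : Ext F n Γ') (τ : Γ →* Γ')
  (hτ : ∀ x, E'.σ (τ x) = E.σ x)
include hτ

/-- A map of extensions respects the canonical lifts. -/
theorem map_X {a b : I} (h : lev a ≠ lev b) (t : F) : τ (X E a b t) = X E' a b t := by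
  obtain ⟨c, hca, hcb⟩ := exists_third E a b
  have o1 : Ok a (bar c) := ok_of_lev (by rw [lev_bar]; exact hca.symm)
  rw [X_eq_br E h hca hcb, X_eq_br E' h hca hcb, map_commutatorElement]
  exact br_indep E'.central (by rw [hτ, σ_lft E o1, σ_lft E' o1])
    (by rw [hτ, σ_lft E (ok_of_lev hcb), σ_lft E' (ok_of_lev hcb)])

theorem map_h {a b : I} (hab : lev a ≠ lev b) (t : F) : τ (h E a b t) = h E' a b t := by
  have h' : lev (bar a) ≠ lev (bar b) := by rwa [lev_bar, lev_bar]
  simp only [h, w, map_mul, map_X E E' τ hτ hab, map_X E E' τ hτ h']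

theorem map_zz : τ (zz E) = zz E' := by
  rw [zz, map_mul, map_h E E' τ hτ (by simpa [lev, bar] using lev_pq E), map_h E E' τ hτ (lev_pq E)]
  rfl

end Gen

variable {F : Type u} [Field F] [Fintype F] {n : ℕ} (h4 : 4 ≤ n) (hg : (n = 4 → Nat.card F ≠ 2) ∧ (n = 3 → (2 : F) ≠ 0))

local notation "S" => Spin.G F n
local notation "SE" => Spin.ext F (le_trans (by norm_num) h4) hg

theorem spin_range : (Spin.ext F (le_trans (by norm_num) h4) hg).σ.range ≤ Chev.Ortho.E F n 0 := by
  rintro _ ⟨⟨p, hp⟩, rfl⟩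
  have hle : Spin.G F n ≤ (Chev.Ortho.E F n 0).comap (MonoidHom.fst _ _) := by
    rw [Spin.G, Subgroup.closure_le]
    rintro _ ⟨a, b, h, t, rfl⟩
    exact Chev.Ortho.el_mem h t (Nat.zero_le _) (Nat.zero_le _)
  exact hle hp

theorem spin_GX : GX (Spin.ext F (le_trans (by norm_num) h4) hg) = ⊤ := GX_eq_top _ (Spin.perfect (n := n) (le_trans (by norm_num) h4)) (spin_range h4 hg)

theorem spin_ker {x : Spin.G F n} (h1 : (Spin.ext F (le_trans (by norm_num) h4) hg).σ x = 1) :
    x = 1 ∨ x = zz (Spin.ext F (le_trans (by norm_num) h4) hg) :=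
  GX_ker _ ((spin_GX h4 hg).ge (Subgroup.mem_top x)) h1

include h4 hg in
/-- The spin group has trivial multiplier. -/
theorem spin_multiplier : Cfsg.HasCyclicSchurMultiplier (Spin.G F n) 1 := by
  refine ProjExt.Stem.hasCyclicSchurMultiplier_one fun Γ _ _ τ hτ => ?_
  have hP : commutator Γ = ⊤ := by
    refine top_le_iff.1 fun g _ => ?_
    obtain ⟨d, hd, e⟩ : τ g ∈ (commutator Γ).map τ := by
      rw [commutator_def, Subgroup.map_commutator, Subgroup.map_top_of_surjective τ hτ.1, ← commutator_def,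
        Spin.perfect (n := n) (le_trans (by norm_num) h4)]
      exact Subgroup.mem_top _
    have : d⁻¹ * g ∈ commutator Γ := hτ.2.2 (by rw [MonoidHom.mem_ker, map_mul, map_inv, e, inv_mul_cancel])
    simpa using mul_mem hd this
  have hc : ((Spin.ext F (le_trans (by norm_num) h4) hg).σ.comp τ).ker ≤ Subgroup.center Γ := fun x hx => by
    refine mem_center_of_comm hP fun y => hτ.2.1 ?_
    rw [MonoidHom.mem_ker, map_commutatorElement, commutatorElement_eq_one_iff_commute]
    exact (Subgroup.mem_center_iff.1 ((Spin.ext F (le_trans (by norm_num) h4) hg).central hx) (τ y)).symm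
  let E : Ext F n Γ :=
    { σ := (Spin.ext F (le_trans (by norm_num) h4) hg).σ.comp τ
      central := hc
      el_mem := fun a b h t => by
        obtain ⟨x, hx⟩ := (Spin.ext F (le_trans (by norm_num) h4) hg).el_mem a b h t
        obtain ⟨y, rfl⟩ := hτ.1 x
        exact ⟨y, hx⟩
      three := le_trans (by norm_num) h4
      good := Or.inl hg }
  have htop : GX E = ⊤ := GX_eq_top E hP (by
    rintro _ ⟨x, rfl⟩; exact spin_range h4 hg ⟨τ x, rfl⟩)
  rw [eq_bot_iff]
  intro x hx
  rw [MonoidHom.mem_ker] at hx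
  have h1 : E.σ x = 1 := by show (Spin.ext F (le_trans (by norm_num) h4) hg).σ (τ x) = 1; rw [hx, map_one]
  rcases GX_ker E (htop.ge (Subgroup.mem_top x)) h1 with rfl | rfl
  · exact one_mem _
  · rw [map_zz E (Spin.ext F (le_trans (by norm_num) h4) hg) τ (fun _ => rfl)] at hx
    by_cases h2 : (2 : F) = 0
    · rw [zz_eq_one E h2]; exact one_mem _
    · exact absurd hx (Spin.zz_ne_one (le_trans (by norm_num) h4) hg h2)

theorem spin_mem (x : Spin.G F n) : (Spin.ext F (le_trans (by norm_num) h4) hg).σ x ∈ Cfsg.Omega F (Cfsg.quadFormPlus n F) := by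
  show _ ∈ commutator (OG F n)
  rw [commutator_eq (by omega)]
  exact spin_range h4 hg ⟨x, rfl⟩

/-- The map onto `Ω`. -/
noncomputable def toOm : Spin.G F n →* Cfsg.Omega F (Cfsg.quadFormPlus n F) :=
  (Spin.ext F (le_trans (by norm_num) h4) hg).σ.codRestrict _ (spin_mem h4 hg)

theorem toOm_surj : Function.Surjective (toOm h4 hg) := by
  rintro ⟨g, hmem⟩
  have hg' : g ∈ commutator (OG F n) := hmem
  rw [commutator_eq (show 3 ≤ n by omega)] at hg'
  have hle : Chev.Ortho.E F n 0 ≤ (Spin.ext F (le_trans (by norm_num) h4) hg).σ.range := by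
    rw [Chev.Ortho.E, Subgroup.closure_le]
    rintro _ ⟨a, b, h, t, -, -, rfl⟩
    exact (Spin.ext F (le_trans (by norm_num) h4) hg).el_mem a b h t
  obtain ⟨x, hx⟩ := hle hg'
  exact ⟨x, Subtype.ext hx⟩

/-- The covering map of `PΩ`. -/
noncomputable def cov : Spin.G F n →* Cfsg.POmega F (Cfsg.quadFormPlus n F) :=
  (QuotientGroup.mk' _).comp (toOm h4 hg)

theorem mem_cov_ker {x : Spin.G F n} :
    x ∈ (cov h4 hg).ker ↔ toOm h4 hg x ∈ Subgroup.center _ := by
  rw [MonoidHom.mem_ker]
  exact QuotientGroup.eq_one_iff _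

theorem cov_stem : Cfsg.IsStemExtension (cov h4 hg) := by
  refine ⟨(QuotientGroup.mk'_surjective _).comp (toOm_surj h4 hg), fun x hx => ?_,
    fun x _ => (Spin.perfect (n := n) (le_trans (by norm_num) h4)).ge (Subgroup.mem_top x)⟩
  refine mem_center_of_comm (Spin.perfect (n := n) (le_trans (by norm_num) h4)) fun y => (Spin.ext F (le_trans (by norm_num) h4) hg).central ?_
  have := Subgroup.mem_center_iff.1 ((mem_cov_ker h4 hg).1 hx) (toOm h4 hg y)
  rw [MonoidHom.mem_ker, map_commutatorElement, commutatorElement_eq_one_iff_commute]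
  exact (congrArg Subtype.val this).symm

/-- The multiplier is the kernel of the covering map. -/
theorem multiplier_of_iso {A : Type*} [CommGroup A] (e : (cov h4 hg).ker ≃* A) :
    Cfsg.HasSchurMultiplier (Cfsg.POmega F (Cfsg.quadFormPlus n F)) A := by
  refine ⟨⟨Spin.G F n, inferInstance, inferInstance, cov h4 hg, cov_stem h4 hg, ⟨e⟩⟩, fun Δ _ _ σ hσ => ?_⟩
  obtain ⟨f, hf, hle⟩ := SLMult.lift_through_cover (Spin.perfect (n := n) (le_trans (by norm_num) h4)) (spin_multiplier h4 hg) (cov h4 hg)
    (cov_stem h4 hg).1 σ hσ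
  let g : (cov h4 hg).ker →* σ.ker := (f.comp (cov h4 hg).ker.subtype).codRestrict _ fun x => by
    show σ (f x) = 1
    rw [show σ (f x) = cov h4 hg (x : Spin.G F n) from DFunLike.congr_fun hf (x : Spin.G F n)]
    exact x.2
  refine ⟨g.comp e.symm.toMonoidHom, fun y => ?_⟩
  obtain ⟨x, hx, ex⟩ := hle y.2
  exact ⟨e ⟨x, hx⟩, Subtype.ext (by simp [g, ex])⟩

/-- The element `-1`. -/
def IsNeg (g : OG F n) : Prop := ∀ i, act g (Pi.single i 1) = -Pi.single i 1

theorem isNeg_mat {g : OG F n} (hn : IsNeg g) :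
    ((g : GL (Fin n ⊕ Fin n) F) : Matrix (Fin n ⊕ Fin n) (Fin n ⊕ Fin n) F) = -1 :=
  Matrix.ext fun i j => by
    have := congrFun (hn j) i
    simpa [act, Matrix.one_apply, Pi.single_apply] using this

theorem isNeg_unique {g g' : OG F n} (hn : IsNeg g) (hn' : IsNeg g') : g = g' :=
  ext_single fun i => (hn i).trans (hn' i).symm

theorem isNeg_comm {g : OG F n} (hn : IsNeg g) (k : OG F n) : k * g = g * k := by
  refine Subtype.ext (Units.ext ?_)
  rw [Subgroup.coe_mul, Subgroup.coe_mul, Units.val_mul, Units.val_mul, isNeg_mat hn, mul_neg_one,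
    neg_one_mul]

theorem isNeg_ne_one {g : OG F n} (hn : IsNeg g) (h2 : (2 : F) ≠ 0) (i : Fin n ⊕ Fin n) : g ≠ 1 := by
  intro e
  have := congrFun (hn i) i
  rw [e, act_one, Pi.neg_apply, Pi.single_eq_same] at this
  exact h2 (by linear_combination this)

open Classical.Quad QuadraticMap in
theorem center_cards (h4 : 4 ≤ n) :
    (((∃ g : Cfsg.isometryGroup F (Cfsg.quadFormPlus n F), g ∈ Cfsg.Omega F (Cfsg.quadFormPlus n F) ∧
        ((g : GL (Fin n ⊕ Fin n) F) : Matrix (Fin n ⊕ Fin n) (Fin n ⊕ Fin n) F) = -1) ∧ (2 : F) ≠ 0) →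
      Nat.card (Subgroup.center (Cfsg.Omega F (Cfsg.quadFormPlus n F))) = 2) ∧
    ((¬ (∃ g : Cfsg.isometryGroup F (Cfsg.quadFormPlus n F), g ∈ Cfsg.Omega F (Cfsg.quadFormPlus n F) ∧
        ((g : GL (Fin n ⊕ Fin n) F) : Matrix (Fin n ⊕ Fin n) (Fin n ⊕ Fin n) F) = -1) ∨ (2 : F) = 0) →
      Nat.card (Subgroup.center (Cfsg.Omega F (Cfsg.quadFormPlus n F))) = 1) := by
  let Q : QuadraticForm F (Fin n ⊕ Fin n → F) := (hyp (zeroForm F) n).comp (plusCoord n).toLinearMap
  have hQe : ⇑Q = Cfsg.quadFormPlus n F := funext fun x => by simp [Q, plusCoord_map]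
  have hQ : (polarBilin Q).Nondegenerate :=
    Iso.nondeg (Iso.symm ⟨plusCoord n, fun x => by simp [Q]⟩) (nondeg_hyp nondeg_zeroForm n)
  have hd : Module.finrank F (Fin n ⊕ Fin n → F) = n + n := by simp
  have := card_center_omega hQ (by omega)
  rwa [hQe] at this

/-- The kernel of the covering map when there is no `-1` in `Ω`. -/
theorem cov_ker_of_no_neg
    (h : ¬ (∃ g : Cfsg.isometryGroup F (Cfsg.quadFormPlus n F), g ∈ Cfsg.Omega F (Cfsg.quadFormPlus n F) ∧
        ((g : GL (Fin n ⊕ Fin n) F) : Matrix (Fin n ⊕ Fin n) (Fin n ⊕ Fin n) F) = -1) ∨ (2 : F) = 0)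
    {x : Spin.G F n} (hx : x ∈ (cov h4 hg).ker) : x = 1 ∨ x = zz (Spin.ext F (le_trans (by norm_num) h4) hg) := by
  have hc := (center_cards (F := F) h4).2 h
  have := Subgroup.eq_bot_of_card_eq _ hc
  have h1 := (mem_cov_ker h4 hg).1 hx
  rw [this, Subgroup.mem_bot] at h1
  exact spin_ker h4 hg (congrArg Subtype.val h1)

/-- The kernel of the covering map when `ω` lifts `-1`. -/
theorem cov_ker_of_neg (h2 : (2 : F) ≠ 0) {om : Spin.G F n} (hom : IsNeg ((Spin.ext F (le_trans (by norm_num) h4) hg).σ om))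
    {x : Spin.G F n} : x ∈ (cov h4 hg).ker ↔ x = 1 ∨ x = zz (Spin.ext F (le_trans (by norm_num) h4) hg) ∨ x = om ∨
      x = om * zz (Spin.ext F (le_trans (by norm_num) h4) hg) := by
  have hcard := (center_cards (F := F) h4).1 ⟨⟨_, spin_mem h4 hg om, isNeg_mat hom⟩, h2⟩
  have hne : toOm h4 hg om ≠ 1 := fun e => isNeg_ne_one hom h2 (Sum.inl ⟨0, by omega⟩)
    (congrArg Subtype.val e)
  have homc : toOm h4 hg om ∈ Subgroup.center _ := Subgroup.mem_center_iff.2 fun k =>
    Subtype.ext (isNeg_comm hom k.1)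
  have hz : (toOm h4 hg) (zz (Spin.ext F (le_trans (by norm_num) h4) hg)) = 1 := Subtype.ext (σ_zz _)
  rw [mem_cov_ker]
  constructor
  · intro hx
    have : Nat.card (Subgroup.center (Cfsg.Omega F (Cfsg.quadFormPlus n F))) = 2 := hcard
    obtain ⟨a, b, hab, huniv⟩ := Nat.card_eq_two_iff.1 this
    have key : ∀ y : Subgroup.center (Cfsg.Omega F (Cfsg.quadFormPlus n F)),
        y = 1 ∨ y = ⟨_, homc⟩ := fun y => by
      have hy := huniv.ge (Set.mem_univ y)
      have h1 := huniv.ge (Set.mem_univ (1 : Subgroup.center (Cfsg.Omega F (Cfsg.quadFormPlus n F))))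
      have hm := huniv.ge (Set.mem_univ (⟨_, homc⟩ : Subgroup.center (Cfsg.Omega F (Cfsg.quadFormPlus n F))))
      have hne' : (⟨_, homc⟩ : Subgroup.center (Cfsg.Omega F (Cfsg.quadFormPlus n F))) ≠ 1 := fun e =>
        hne (congrArg Subtype.val e)
      simp only [Set.mem_insert_iff, Set.mem_singleton_iff] at hy h1 hm
      rcases hy with rfl | rfl <;> rcases h1 with h1 | h1 <;> rcases hm with hm | hm <;>
        first
        | exact Or.inl h1.symm
        | exact Or.inr hm.symm
        | exact absurd (hm.trans h1.symm) hne'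
    rcases key ⟨_, hx⟩ with e | e
    · have e' : toOm h4 hg x = 1 := congrArg Subtype.val e
      rcases spin_ker h4 hg (congrArg Subtype.val e') with h | h
      · exact Or.inl h
      · exact Or.inr (Or.inl h)
    · have e' : toOm h4 hg (om⁻¹ * x) = 1 := by
        rw [map_mul, map_inv, show toOm h4 hg x = toOm h4 hg om from congrArg Subtype.val e, inv_mul_cancel]
      rcases spin_ker h4 hg (congrArg Subtype.val e') with h | h
      · exact Or.inr (Or.inr (Or.inl (inv_mul_eq_one.1 h).symm))
      · exact Or.inr (Or.inr (Or.inr (by rw [← h, mul_inv_cancel_left])))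
  · rintro (rfl | rfl | rfl | rfl)
    · rw [map_one]; exact one_mem _
    · rw [hz]; exact one_mem _
    · exact homc
    · rw [map_mul, hz, mul_one]; exact homc

theorem isNeg_of_mon {g : Spin.G F n} {u : Tor F n} {c : Fˣ} (hgu : g = tor (Spin.ext F (le_trans (by norm_num) h4) hg) (u, c))
    (hu : ∀ i, (u : Fin n → Fˣ) i *
      (if i = iP (Spin.ext F (le_trans (by norm_num) h4) hg) ∨ i = iQ (Spin.ext F (le_trans (by norm_num) h4) hg) then c else 1) = -1) :
    IsNeg ((Spin.ext F (le_trans (by norm_num) h4) hg).σ g) := by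
  subst hgu
  obtain ⟨d, hd⟩ := tor_isMon (Spin.ext F (le_trans (by norm_num) h4) hg) (u, c)
  have hl : ∀ i, d (Sum.inl i) = -1 := fun i => by
    have := congrFun ((hd.2.2 (Sum.inl i)).symm.trans (σ_tor_inl (Spin.ext F (le_trans (by norm_num) h4) hg) u c i)) (Sum.inl i)
    simp only [Equiv.Perm.one_apply, Pi.single_eq_same] at this
    rw [this]
    have h' := congrArg (fun v : Fˣ => (v : F)) (hu i)
    simp only [Units.val_mul, Units.val_neg, Units.val_one] at h'
    rw [← h']; split_ifs <;> simp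
  intro i
  rw [hd.2.2]
  rcases i with i | i
  · rw [hl, Pi.single_neg]; rfl
  · have := hd.2.1 (Sum.inl i)
    rw [hl, neg_one_mul, neg_eq_iff_eq_neg] at this
    rw [show d (Sum.inr i) = -1 from this, Pi.single_neg]; rfl

include h4 hg in
theorem two_eq (h2 : (2 : F) = 0) : (cov h4 hg).ker = ⊥ := by
  rw [eq_bot_iff]
  intro x hx
  rcases cov_ker_of_no_neg h4 hg (Or.inr h2) hx with rfl | rfl
  · exact one_mem _
  · rw [zz_eq_one _ h2]; exact one_mem _

theorem even_card_of_two (h2 : (2 : F) = 0) : Even (Fintype.card F) := by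
  have : CharP F 2 := CharTwo.of_one_ne_zero_of_two_eq_zero one_ne_zero h2
  exact Nat.even_iff.2 (FiniteField.even_card_of_char_two (ringChar.eq F 2))

theorem odd_card_of_two (h2 : (2 : F) ≠ 0) : Odd (Fintype.card F) :=
  Nat.odd_iff.2 (FiniteField.odd_card_of_char_ne_two fun h => h2 (by
    have : CharP F 2 := h ▸ ringChar.charP F
    exact CharTwo.two_eq_zero))

include h4 hg in
/-- Odd rank. -/
theorem multiplier_odd (hodd : Odd n) :
    Cfsg.HasCyclicSchurMultiplier (Cfsg.POmega F (Cfsg.quadFormPlus n F))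
      (Nat.gcd 4 (Fintype.card F ^ n - 1)) := by
  set E := Spin.ext F (le_trans (by norm_num) h4) hg with hE
  have hq0 : 0 < Fintype.card F := Fintype.card_pos
  have main : IsCyclic (cov h4 hg).ker ∧
      Nat.card (cov h4 hg).ker = Nat.gcd 4 (Fintype.card F ^ n - 1) := by
    by_cases h2 : (2 : F) = 0
    · have hev : Even (Fintype.card F ^ n) := (even_card_of_two h2).pow_of_ne_zero (by omega)
      obtain ⟨r, hr⟩ := hev
      have hg4 : Nat.gcd 4 (Fintype.card F ^ n - 1) = 1 := by
        refine Nat.Coprime.pow_left 2 ((Nat.prime_two.coprime_iff_not_dvd).2 ?_)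
        have : 0 < Fintype.card F ^ n := pow_pos hq0 n
        omega
      rw [two_eq h4 hg h2, hg4, Subgroup.card_bot]
      exact ⟨inferInstance, rfl⟩
    · have hqo := odd_card_of_two h2
      have hmod : Fintype.card F ^ n % 2 = 1 := Nat.odd_iff.1 hqo.pow
      have hz : zz E ≠ 1 := Spin.zz_ne_one (le_trans (by norm_num) h4) hg h2
      have hneg := S0790.result (F := F) rfl hqo n (by omega)
      by_cases h1 : Fintype.card F ^ n % 4 = 1
      · have hq1 : Fintype.card F % 4 ≠ 3 := fun h3 => by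
          obtain ⟨r, hr⟩ := hodd
          rw [hr, pow_succ, pow_mul, Nat.mul_mod, Nat.pow_mod, Nat.pow_mod (Fintype.card F), h3] at h1
          norm_num at h1
        obtain ⟨i, hi⟩ := FiniteField.isSquare_neg_one_iff.2 hq1
        have hi0 : i ≠ 0 := fun e => by rw [e, mul_zero] at hi; exact one_ne_zero (neg_eq_zero.1 hi)
        let iu : Fˣ := Units.mk0 i hi0
        have hii : iu * iu = -1 := Units.ext (by simpa [iu] using hi.symm)
        have hne := iP_ne E
        let uf : Fin n → Fˣ := fun k => if k = iP E ∨ k = iQ E then iu else -1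
        have huf : uf ∈ Tor F n := by
          show ∏ k, uf k = 1
          have hsplit : ∀ k, uf k = (-1) * ((Pi.mulSingle (iP E) (-iu) * Pi.mulSingle (iQ E) (-iu) :
              Fin n → Fˣ) k) := fun k => by
            by_cases a1 : k = iP E
            · subst a1; simp [uf, hne]
            by_cases a2 : k = iQ E
            · subst a2; simp [uf, hne.symm]
            simp [uf, a1, a2]
          rw [Finset.prod_congr rfl fun k _ => hsplit k]
          simp [Finset.prod_neg, Finset.prod_mul_distrib, Finset.prod_pi_mulSingle', hodd.neg_one_pow, hii]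
        let om := tor E (⟨uf, huf⟩, iu)
        have hom : IsNeg (E.σ om) := isNeg_of_mon h4 hg rfl fun k => by
          show uf k * _ = -1
          by_cases a : k = iP E ∨ k = iQ E
          · rw [show uf k = iu from if_pos a, if_pos a, hii]
          · rw [show uf k = -1 from if_neg a, if_neg a, mul_one]
        have hsq : om * om = zz E := by
          rw [← map_mul, zz_eq]
          congr 1
          refine Prod.ext (Subtype.ext (funext fun k => ?_)) hii
          show uf k * uf k = _
          by_cases a1 : k = iP E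
          · subst a1; simp [uf, crt, hne, hii]
          by_cases a2 : k = iQ E
          · subst a2; simp [uf, crt, hne.symm, hii]
          simp [uf, crt, a1, a2]
        have hker : (cov h4 hg).ker = Subgroup.zpowers om := by
          refine le_antisymm (fun x hx => ?_) (Subgroup.zpowers_le.2 ((cov_ker_of_neg h4 hg h2 hom).2
            (Or.inr (Or.inr (Or.inl rfl)))))
          have hm := Subgroup.mem_zpowers om
          rcases (cov_ker_of_neg h4 hg h2 hom).1 hx with rfl | rfl | rfl | rfl
          · exact one_mem _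
          · rw [← hsq]; exact mul_mem hm hm
          · exact hm
          · rw [← hsq]; exact mul_mem hm (mul_mem hm hm)
        have hord : orderOf om = 4 := orderOf_eq_prime_pow (p := 2) (n := 1)
          (by rw [pow_one, pow_two, hsq]; exact hz)
          (by rw [show 2 ^ (1 + 1) = 2 * 2 from rfl, pow_mul, pow_two om, hsq, pow_two, zz_mul_self])
        rw [hker, Nat.card_zpowers, hord]
        refine ⟨inferInstance, ?_⟩
        rw [Nat.gcd_rec, show (Fintype.card F ^ n - 1) % 4 = 0 by omega, Nat.gcd_zero_left]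
      · have hno : ¬ _ := mt hneg.1 h1
        have hker : (cov h4 hg).ker = Subgroup.zpowers (zz E) := by
          refine le_antisymm (fun x hx => ?_) (Subgroup.zpowers_le.2 ((mem_cov_ker h4 hg).2 ?_))
          · rcases cov_ker_of_no_neg h4 hg (Or.inl hno) hx with rfl | rfl
            · exact one_mem _
            · exact Subgroup.mem_zpowers _
          · rw [show toOm h4 hg (zz E) = 1 from Subtype.ext (σ_zz E)]; exact one_mem _
        have hord : orderOf (zz E) = 2 := orderOf_eq_prime (by rw [pow_two, zz_mul_self]) hz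
        rw [hker, Nat.card_zpowers, hord]
        refine ⟨inferInstance, ?_⟩
        rw [Nat.gcd_rec, show (Fintype.card F ^ n - 1) % 4 = 2 by omega]
        rfl
  exact multiplier_of_iso h4 hg (main.2 ▸ (zmodCyclicMulEquiv main.1).symm)

include h4 hg in
/-- Even rank. -/
theorem multiplier_even (hev : Even n) :
    Cfsg.HasSchurMultiplier (Cfsg.POmega F (Cfsg.quadFormPlus n F))
      (Multiplicative (ZMod (Nat.gcd 2 (Fintype.card F ^ n - 1)) ×
        ZMod (Nat.gcd 2 (Fintype.card F ^ n - 1)))) := by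
  set E := Spin.ext F (le_trans (by norm_num) h4) hg with hE
  by_cases h2 : (2 : F) = 0
  · obtain ⟨r, hr⟩ := (even_card_of_two h2).pow_of_ne_zero (show n ≠ 0 by omega)
    have hg2 : Nat.gcd 2 (Fintype.card F ^ n - 1) = 1 := by
      refine (Nat.prime_two.coprime_iff_not_dvd).2 ?_
      have : 0 < Fintype.card F ^ n := pow_pos Fintype.card_pos n
      omega
    rw [hg2]
    have hb := two_eq h4 hg h2
    have : Subsingleton (cov h4 hg).ker := by rw [hb]; infer_instance
    have : Unique (cov h4 hg).ker := uniqueOfSubsingleton 1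
    have : Unique (Multiplicative (ZMod 1 × ZMod 1)) := uniqueOfSubsingleton 1
    exact multiplier_of_iso h4 hg MulEquiv.ofUnique
  · have hqo := odd_card_of_two h2
    have hmod : Fintype.card F ^ n % 2 = 1 := Nat.odd_iff.1 hqo.pow
    have hg2 : Nat.gcd 2 (Fintype.card F ^ n - 1) = 2 :=
      Nat.gcd_eq_left (by omega)
    rw [hg2]
    have hz : zz E ≠ 1 := Spin.zz_ne_one (le_trans (by norm_num) h4) hg h2
    have huf : (fun _ => (-1 : Fˣ)) ∈ Tor F n := by
      show ∏ _k : Fin n, (-1 : Fˣ) = 1
      simp [hev.neg_one_pow]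
    set om := tor E (⟨fun _ => (-1 : Fˣ), huf⟩, 1) with hom_def
    have hom : IsNeg (E.σ om) := isNeg_of_mon h4 hg rfl fun k => by simp
    have hsq : om * om = 1 := by
      rw [hom_def, ← map_mul]
      convert (tor E).map_one using 2
      exact Prod.ext (Subtype.ext (funext fun k => by simp)) (one_mul 1)
    have hiff := @cov_ker_of_neg F _ _ n h4 hg h2 om hom
    have hzc := zz_central E
    have hc : Commute om (zz E) := (Subgroup.mem_center_iff.1 hzc om)
    have hσ : E.σ om ≠ 1 := isNeg_ne_one hom h2 (Sum.inl ⟨0, by omega⟩)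
    have d1 : om ≠ 1 := fun e => hσ (by rw [e, map_one])
    have d2 : om ≠ zz E := fun e => hσ (by rw [e, σ_zz])
    have d3 : om * zz E ≠ 1 := fun e => hσ (by
      have := congrArg E.σ e; rwa [map_mul, σ_zz, mul_one, map_one] at this)
    have d4 : om * zz E ≠ zz E := fun e => d1 (mul_eq_right.1 e)
    have d5 : om * zz E ≠ om := fun e => hz (mul_eq_left.1 e)
    have hsub : ((cov h4 hg).ker : Set (Spin.G F n)) = {1, zz E, om, om * zz E} := by
      ext x; rw [SetLike.mem_coe, hiff]; rfl
    have hk : IsKleinFour (cov h4 hg).ker := by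
      constructor
      · rw [show Nat.card (cov h4 hg).ker = Set.ncard ((cov h4 hg).ker : Set (Spin.G F n)) from
          (Nat.card_coe_set_eq _), hsub]
        rw [Set.ncard_insert_of_notMem, Set.ncard_insert_of_notMem, Set.ncard_insert_of_notMem,
          Set.ncard_singleton]
        · simp [d5.symm]
        · simp [d2.symm, d4.symm]
        · simp [hz.symm, d1.symm, d3.symm]
      · refine (Nat.dvd_prime Nat.prime_two).1 (Monoid.exponent_dvd_of_forall_pow_eq_one fun x => ?_)
          |>.resolve_left fun h1 => ?_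
        · refine Subtype.ext ?_
          rw [Subgroup.coe_pow, pow_two, Subgroup.coe_one]
          rcases hiff.1 x.2 with e | e | e | e <;> rw [e]
          · rw [one_mul]
          · exact zz_mul_self E
          · exact hsq
          · rw [hc.symm.mul_mul_mul_comm, hsq, zz_mul_self, one_mul]
        · have := Monoid.pow_exponent_eq_one (⟨om, hiff.2 (Or.inr (Or.inr (Or.inl rfl)))⟩ : (cov h4 hg).ker)
          rw [h1, pow_one] at this
          exact d1 (congrArg Subtype.val this)
    exact multiplier_of_iso h4 hg (IsKleinFour.nonempty_mulEquiv (G₁ := (cov h4 hg).ker)).some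

end Cfsg.Agent.DMult
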