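import Cfsg.Agent.DMult.Rel

/-!
Monomial elements over the split orthogonal group: they permute the canonical lifts, and the lifted
torus is abelian.
-/

set_option autoImplicit false
set_option linter.unusedSectionVars false
set_option linter.unusedSimpArgs false
set_option linter.unusedTactic false
set_option linter.unreachableTactic false

open Matrix
open scoped commutatorElement MatrixGroups

namespace Cfsg.Agent.DMult

open Chev.Ortho CurtisTitsD
open SLMult (tx)

universe u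

variable {F : Type u} [Field F] [Fintype F] {n : ℕ} {Γ : Type u} [Group Γ] [Finite Γ]

local notation "I" => Fin n ⊕ Fin n

variable (E : Ext F n Γ)

/-- A monomial element of the extension. -/
def IsMon (g : Γ) (τ : Equiv.Perm I) : Prop := ∃ c, IsMonO (E.σ g) τ c

theorem IsMon.mul {g g' : Γ} {τ τ' : Equiv.Perm I} (h : IsMon E g τ) (h' : IsMon E g' τ') :
    IsMon E (g * g') (τ * τ') := by
  obtain ⟨c, hc⟩ := h; obtain ⟨c', hc'⟩ := h'
  exact ⟨_, by rw [map_mul]; exact hc.mul hc'⟩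

theorem IsMon.inv {g : Γ} {τ : Equiv.Perm I} (h : IsMon E g τ) : IsMon E g⁻¹ τ⁻¹ := by
  obtain ⟨c, hc⟩ := h
  exact ⟨_, by rw [map_inv]; exact hc.inv⟩

/-- The group of monomial elements. -/
def monGroup : Subgroup Γ where
  carrier := {g | ∃ τ, IsMon E g τ}
  one_mem' := ⟨1, _, by rw [map_one]; exact isMonO_one⟩
  mul_mem' := fun ⟨_, h⟩ ⟨_, h'⟩ => ⟨_, h.mul E h'⟩
  inv_mem' := fun ⟨_, h⟩ => ⟨_, h.inv E⟩

theorem IsMon.mem {g : Γ} {τ : Equiv.Perm I} (h : IsMon E g τ) : g ∈ monGroup E := ⟨τ, h⟩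

/-- Monomial elements permute the canonical lifts. -/
theorem X_mon {g : Γ} {τ : Equiv.Perm I} {c : I → F} (h : IsMonO (E.σ g) τ c) {a b : I}
    (hab : lev a ≠ lev b) (t : F) : g * X E a b t * g⁻¹ = X E (τ a) (τ b) (c a * c b * t) := by
  obtain ⟨d, hda, hdb⟩ := exists_third E a b
  have hne : ∀ {p q : I}, lev p ≠ lev q → lev (τ p) ≠ lev (τ q) := fun hpq =>
    lev_ne_of_ok (h.ok (ok_of_lev hpq))
  rw [X_conj E g (c := d) (c' := τ d) (α := c a * c (bar d)) (β := c d * c b) hab hda hdb (hne hab)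
    (hne hda) (hne hdb) (fun h1 h1' u => ?_) (fun h2 h2' u => ?_) t]
  · congr 1; linear_combination (c a * c b * t) * h.2.1 d
  · rw [h.conj_el]; exact el_congr _ _ rfl (h.1 d) _
  · exact h.conj_el h2 u

/-- The Weyl element of a root. -/
noncomputable def w (a b : I) (t : F) : Γ := X E a b t * X E (bar a) (bar b) t⁻¹ * X E a b t

/-- The torus element of a root. -/
noncomputable def h (a b : I) (t : F) : Γ := w E a b t * w E a b (-1)

theorem w_eq_f {s : Fin n → I} (hs : IsSec s) {i j : Fin n} (hij : i ≠ j) {a b : I} (ha : s i = a)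
    (hb : bar (s j) = b) (t : F) : w E a b t = f E hs (wS i j t) := by
  have hlev : lev (bar b) ≠ lev (bar a) := by
    rw [lev_bar, lev_bar, ← ha, ← hb, lev_bar]; exact hs.lev_ne hij.symm
  rw [w, X_swap E hlev, X_eq_f E hs hij ha hb, X_eq_f E hs hij.symm (a := bar b) (b := bar a)
    (by rw [← hb, bar_bar]) (by rw [← ha]), wS, map_mul, map_mul]

theorem h_eq_f {s : Fin n → I} (hs : IsSec s) {i j : Fin n} (hij : i ≠ j) {a b : I} (ha : s i = a)
    (hb : bar (s j) = b) (t : F) : h E a b t = f E hs (hS i j t) := by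
  rw [h, w_eq_f E hs hij ha hb, w_eq_f E hs hij ha hb, hS, map_mul]

theorem w_inv {a b : I} (hab : lev a ≠ lev b) {t : F} (ht : t ≠ 0) : (w E a b t)⁻¹ = w E a b (-t) := by
  obtain ⟨s, hs, sa, sb⟩ := exists_sec_root hab
  have hne := levF_ne.2 hab
  refine inv_eq_of_mul_eq_one_right ?_
  rw [w_eq_f E hs hne sa sb, w_eq_f E hs hne sa sb, ← map_mul, wS_mul_inv hne ht, map_one]

theorem h_mul {a b : I} (hab : lev a ≠ lev b) {t u : F} (ht : t ≠ 0) (hu : u ≠ 0) :
    h E a b t * h E a b u = h E a b (t * u) := by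
  obtain ⟨s, hs, sa, sb⟩ := exists_sec_root hab
  have hne := levF_ne.2 hab
  simp only [h_eq_f E hs hne sa sb, ← map_mul, hS_mul hne ht hu]

theorem h_one {a b : I} (hab : lev a ≠ lev b) : h E a b (1 : F) = 1 := by
  rw [h, ← w_inv E hab one_ne_zero, mul_inv_cancel]

theorem w_swap {a b : I} (hab : lev a ≠ lev b) (t : F) : w E b a t = w E a b (-t) := by
  have hab' : lev (bar a) ≠ lev (bar b) := by rwa [lev_bar, lev_bar]
  rw [w, w, X_swap E hab, X_swap E hab', inv_neg]

theorem h_swap {a b : I} (hab : lev a ≠ lev b) {t : F} (ht : t ≠ 0) : h E b a t = h E a b t := by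
  obtain ⟨s, hs, sa, sb⟩ := exists_sec_root hab
  have hne := levF_ne.2 hab
  rw [h_eq_f E hs hne sa sb, ← wS_pair hne ht (neg_ne_zero.2 one_ne_zero : (-1 : F) ≠ 0), h,
    w_swap E hab, w_swap E hab, w_eq_f E hs hne sa sb, w_eq_f E hs hne sa sb, ← map_mul, neg_one_mul,
    neg_one_mul]

theorem w_bar {a b : I} (hab : lev a ≠ lev b) {t : F} (ht : t ≠ 0) :
    w E (bar a) (bar b) t = w E a b t⁻¹ := by
  obtain ⟨s, hs, sa, sb⟩ := exists_sec_root hab
  have hne := levF_ne.2 hab
  have hba : lev (bar b) ≠ lev (bar a) := by rw [lev_bar, lev_bar]; exact hab.symm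
  rw [w_swap E hba, w_eq_f E hs hne.symm (a := bar b) (b := bar a) (by rw [← congrArg bar sb, bar_bar]) (by rw [sa]),
    w_eq_f E hs hne sa sb, wS_swap hne ht]

theorem h_bar {a b : I} (hab : lev a ≠ lev b) {t : F} (ht : t ≠ 0) :
    h E (bar a) (bar b) t = h E a b t⁻¹ := by
  rw [h, h, w_bar E hab ht, w_bar E hab (neg_ne_zero.2 one_ne_zero), inv_neg, inv_one]

/-- The permutation of the Weyl element of a root. -/
def wPerm (a b : I) : Equiv.Perm I := Equiv.swap a (bar b) * Equiv.swap b (bar a)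

theorem wPerm_apply {a b : I} (hab : lev a ≠ lev b) (i : I) :
    wPerm a b i = if i = bar b then a else if i = a then bar b else if i = bar a then b else
      if i = b then bar a else i := by
  have g1 : bar b ≠ a := fun e => hab (by rw [← e, lev_bar])
  have g2 : bar a ≠ b := fun e => hab (by rw [← e, lev_bar])
  have g3 : a ≠ b := fun e => hab (by rw [e])
  have g4 : bar a ≠ bar b := fun e => g3 (bar_inj e)
  rw [wPerm, Equiv.Perm.mul_apply, Equiv.swap_apply_def b, Equiv.swap_apply_def a]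
  by_cases i1 : i = bar b
  · subst i1; simp [g1, g1.symm, g2, g2.symm, g3, g3.symm, g4, g4.symm, bar_ne]
  by_cases i2 : i = a
  · subst i2; simp [g1, g1.symm, g2, g2.symm, g3, g3.symm, g4, g4.symm, bar_ne, (bar_ne _).symm]
  by_cases i3 : i = bar a
  · subst i3; simp [g1, g1.symm, g2, g2.symm, g3, g3.symm, g4, g4.symm, bar_ne, (bar_ne _).symm]
  by_cases i4 : i = b
  · subst i4; simp [g1, g1.symm, g2, g2.symm, g3, g3.symm, g4, g4.symm, bar_ne, (bar_ne _).symm]
  simp [i1, i2, i3, i4]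

theorem isMonO_w {a b : I} (hab : lev a ≠ lev b) {t : F} (ht : t ≠ 0) :
    IsMonO (E.σ (w E a b t)) (wPerm a b)
      (fun i => if i = bar b then t else if i = a then -t⁻¹ else if i = bar a then -t else
        if i = b then t⁻¹ else 1) := by
  have h1 : Ok a b := ok_of_lev hab
  have h2 : Ok (bar a) (bar b) := ok_of_lev (by rwa [lev_bar, lev_bar])
  have g1 : bar b ≠ a := fun e => hab (by rw [← e, lev_bar])
  have g2 : bar a ≠ b := fun e => hab (by rw [← e, lev_bar])
  have g3 : a ≠ b := h1.1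
  have g4 : bar a ≠ bar b := fun e => g3 (bar_inj e)
  refine ⟨fun i => ?_, fun i => ?_, fun i => ?_⟩
  · have e : ∀ x : I, bar i = x ↔ i = bar x := fun x =>
      ⟨fun h => by rw [← h, bar_bar], fun h => by rw [h, bar_bar]⟩
    rw [wPerm_apply hab, wPerm_apply hab]
    simp only [e, bar_bar]
    by_cases i1 : i = bar b
    · subst i1; simp [g1, g1.symm, g2, g2.symm, g3, g3.symm, g4, g4.symm, bar_ne, (bar_ne _).symm]
    by_cases i2 : i = a
    · subst i2; simp [g1, g1.symm, g2, g2.symm, g3, g3.symm, g4, g4.symm, bar_ne, (bar_ne _).symm]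
    by_cases i3 : i = bar a
    · subst i3; simp [g1, g1.symm, g2, g2.symm, g3, g3.symm, g4, g4.symm, bar_ne, (bar_ne _).symm]
    by_cases i4 : i = b
    · subst i4; simp [g1, g1.symm, g2, g2.symm, g3, g3.symm, g4, g4.symm, bar_ne, (bar_ne _).symm]
    simp [i1, i2, i3, i4]
  · by_cases i1 : i = bar b
    · subst i1; simp [bar_bar, g1.symm, g3.symm, g4, g4.symm, g2.symm, (bar_ne b).symm, ht]
    by_cases i2 : i = a
    · subst i2; simp [g4, (bar_ne i).symm, g2, bar_ne, g1.symm, ht]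
    by_cases i3 : i = bar a
    · subst i3; simp [bar_bar, g4, bar_ne, g1.symm, g3, (bar_ne a).symm, ht]
    by_cases i4 : i = b
    · subst i4; simp [g1, g3.symm, g2.symm, (bar_ne i).symm, ht]
    have j1 : bar i ≠ bar b := fun e => i4 (bar_inj e)
    have j2 : bar i ≠ a := fun e => i3 (by rw [← e, bar_bar])
    have j3 : bar i ≠ bar a := fun e => i2 (bar_inj e)
    have j4 : bar i ≠ b := fun e => i1 (by rw [← e, bar_bar])
    simp [i1, i2, i3, i4, j1, j2, j3, j4]
  · rw [w, map_mul, map_mul, σ_X E h1, σ_X E h2]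
    funext r
    simp only [act_mul, el_apply, bar_bar, Pi.single_apply, wPerm_apply hab]
    by_cases i1 : i = bar b
    · subst i1
      by_cases r1 : r = a
      · subst r1
        simp [g1, g1.symm, g2, g2.symm, g3, g3.symm, g4, g4.symm, bar_ne, (bar_ne _).symm, ht]
      by_cases r2 : r = bar b
      · subst r2
        simp [g1, g1.symm, g2, g2.symm, g3, g3.symm, g4, g4.symm, bar_ne, (bar_ne _).symm, ht, r1]
      simp [g1, g1.symm, g2, g2.symm, g3, g3.symm, g4, g4.symm, bar_ne, (bar_ne _).symm, r1, r2]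
    by_cases i2 : i = a
    · subst i2
      by_cases r1 : r = i
      · subst r1
        simp [g1, g1.symm, g2, g2.symm, g3, g3.symm, g4, g4.symm, bar_ne, (bar_ne _).symm, ht]
      by_cases r2 : r = bar b
      · subst r2
        simp [g1, g1.symm, g2, g2.symm, g3, g3.symm, g4, g4.symm, bar_ne, (bar_ne _).symm, ht]
      simp [g1, g1.symm, g2, g2.symm, g3, g3.symm, g4, g4.symm, bar_ne, (bar_ne _).symm, r1, r2]
    by_cases i3 : i = bar a
    · subst i3
      by_cases r1 : r = b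
      · subst r1
        simp [g1, g1.symm, g2, g2.symm, g3, g3.symm, g4, g4.symm, bar_ne, (bar_ne _).symm, ht]
      by_cases r2 : r = bar a
      · subst r2
        simp [g1, g1.symm, g2, g2.symm, g3, g3.symm, g4, g4.symm, bar_ne, (bar_ne _).symm, ht]
      simp [g1, g1.symm, g2, g2.symm, g3, g3.symm, g4, g4.symm, bar_ne, (bar_ne _).symm, r1, r2]
    by_cases i4 : i = b
    · subst i4
      by_cases r1 : r = i
      · subst r1
        simp [g1, g1.symm, g2, g2.symm, g3, g3.symm, g4, g4.symm, bar_ne, (bar_ne _).symm, ht]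
      by_cases r2 : r = bar a
      · subst r2
        simp [g1, g1.symm, g2, g2.symm, g3, g3.symm, g4, g4.symm, bar_ne, (bar_ne _).symm, ht, r1]
      simp [g1, g1.symm, g2, g2.symm, g3, g3.symm, g4, g4.symm, bar_ne, (bar_ne _).symm, r1, r2]
    simp [i1, i2, i3, i4, Ne.symm i1, Ne.symm i2, Ne.symm i3, Ne.symm i4]

theorem w_mon {a b : I} (hab : lev a ≠ lev b) {t : F} (ht : t ≠ 0) : IsMon E (w E a b t) (wPerm a b) :=
  ⟨_, isMonO_w E hab ht⟩

theorem wPerm_sq {a b : I} (hab : lev a ≠ lev b) : wPerm a b * wPerm a b = 1 := by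
  have g1 : bar b ≠ a := fun e => hab (by rw [← e, lev_bar])
  have g2 : bar a ≠ b := fun e => hab (by rw [← e, lev_bar])
  have g3 : a ≠ b := fun e => hab (by rw [e])
  have g4 : bar a ≠ bar b := fun e => g3 (bar_inj e)
  refine Equiv.ext fun i => ?_
  rw [Equiv.Perm.mul_apply, Equiv.Perm.one_apply, wPerm_apply hab i]
  by_cases i1 : i = bar b
  · subst i1; simp [wPerm_apply hab, g1, g1.symm, g2, g2.symm, g3, g3.symm, g4, g4.symm, bar_ne]
  by_cases i2 : i = a
  · subst i2
    simp [wPerm_apply hab, g1, g1.symm, g2, g2.symm, g3, g3.symm, g4, g4.symm, bar_ne, (bar_ne _).symm]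
  by_cases i3 : i = bar a
  · subst i3
    simp [wPerm_apply hab, g1, g1.symm, g2, g2.symm, g3, g3.symm, g4, g4.symm, bar_ne, (bar_ne _).symm]
  by_cases i4 : i = b
  · subst i4
    simp [wPerm_apply hab, g1, g1.symm, g2, g2.symm, g3, g3.symm, g4, g4.symm, bar_ne, (bar_ne _).symm]
  simp [wPerm_apply hab, i1, i2, i3, i4]

theorem h_mon {a b : I} (hab : lev a ≠ lev b) {t : F} (ht : t ≠ 0) : IsMon E (h E a b t) 1 := by
  rw [← wPerm_sq hab]
  exact (w_mon E hab ht).mul E (w_mon E hab (neg_ne_zero.2 one_ne_zero))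

/-- Conjugating Weyl elements. -/
theorem w_conj {g : Γ} {τ : Equiv.Perm I} {c : I → F} (hg : IsMonO (E.σ g) τ c) {a b : I}
    (hab : lev a ≠ lev b) (t : F) : g * w E a b t * g⁻¹ = w E (τ a) (τ b) (c a * c b * t) := by
  have h' : lev (bar a) ≠ lev (bar b) := by rwa [lev_bar, lev_bar]
  have e : c (bar a) * c (bar b) * t⁻¹ = (c a * c b * t)⁻¹ := by
    rw [mul_inv, mul_inv, eq_inv_of_mul_eq_one_right (hg.2.1 a), eq_inv_of_mul_eq_one_right (hg.2.1 b)]
  rw [w, show g * (X E a b t * X E (bar a) (bar b) t⁻¹ * X E a b t) * g⁻¹ =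
      g * X E a b t * g⁻¹ * (g * X E (bar a) (bar b) t⁻¹ * g⁻¹) * (g * X E a b t * g⁻¹) by group,
    X_mon E hg hab, X_mon E hg h', e, hg.1, hg.1, w]

theorem h_conj {g : Γ} {τ : Equiv.Perm I} (hg : IsMon E g τ) {a b : I} (hab : lev a ≠ lev b) {t : F}
    (ht : t ≠ 0) : g * h E a b t * g⁻¹ = h E (τ a) (τ b) t := by
  obtain ⟨c, hc⟩ := hg
  have hne : lev (τ a) ≠ lev (τ b) := lev_ne_of_ok (hc.ok (ok_of_lev hab))
  obtain ⟨s, hs, sa, sb⟩ := exists_sec_root hne
  rw [h, show g * (w E a b t * w E a b (-1)) * g⁻¹ =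
      g * w E a b t * g⁻¹ * (g * w E a b (-1) * g⁻¹) by group,
    w_conj E hc hab, w_conj E hc hab, h_eq_f E hs (levF_ne.2 hne) sa sb, w_eq_f E hs (levF_ne.2 hne) sa sb,
    w_eq_f E hs (levF_ne.2 hne) sa sb, ← map_mul,
    wS_pair (levF_ne.2 hne) ht (mul_ne_zero (hc.ne_zero a) (hc.ne_zero b))]

theorem h_comm {g : Γ} (hg : IsMon E g 1) {a b : I} (hab : lev a ≠ lev b) {t : F} (ht : t ≠ 0) :
    Commute g (h E a b t) := by
  have := h_conj E hg hab ht
  rwa [Equiv.Perm.one_apply, Equiv.Perm.one_apply, mul_inv_eq_iff_eq_mul] at this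

end Cfsg.Agent.DMult
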