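import Cfsg.Agent.DMult.Lift

/-!
Monomial elements of the split orthogonal group, and the natural action of the lifted linear groups.
-/

set_option autoImplicit false
set_option linter.unusedSectionVars false
set_option linter.unusedSimpArgs false
set_option linter.unusedTactic false
set_option linter.unreachableTactic false

open Matrix
open scoped commutatorElement MatrixGroups

namespace Cfsg.Agent.DMult

open Chev.Ortho CurtisTitsD
open SLMult (tx)

universe u

section SL

variable {F : Type*} [Field F] {ι : Type*} [Fintype ι] [DecidableEq ι]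

/-- Weyl element of a transvection pair. -/
def wS (i j : ι) (t : F) : SpecialLinearGroup ι F := tx i j t * tx j i (-t⁻¹) * tx i j t

/-- Torus element of a transvection pair. -/
def hS (i j : ι) (t : F) : SpecialLinearGroup ι F := wS i j t * wS i j (-1)

theorem wS_mulVec {i j : ι} (h : i ≠ j) {t : F} (ht : t ≠ 0) (v : ι → F) (r : ι) :
    ((wS i j t).1 *ᵥ v) r = if r = i then t * v j else if r = j then -t⁻¹ * v i else v r := by
  rw [wS, Matrix.SpecialLinearGroup.coe_mul, Matrix.SpecialLinearGroup.coe_mul,
    SLMult.tx_eq h, SLMult.tx_eq h.symm, Matrix.SpecialLinearGroup.transvection_coe,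
    Matrix.SpecialLinearGroup.transvection_coe]
  simp only [← Matrix.mulVec_mulVec, Classical.tv_mulVec, Pi.add_apply, Pi.single_apply, h, h.symm,
    if_false, if_true, add_zero]
  split_ifs with h1 h2 <;> subst_vars <;> first | contradiction | (field_simp; ring) | ring

theorem wS_swap {i j : ι} (h : i ≠ j) {t : F} (ht : t ≠ 0) : wS j i (-t) = wS i j t⁻¹ := by
  refine Classical.sl_ext_mulVec fun v => funext fun r => ?_
  rw [wS_mulVec h.symm (neg_ne_zero.2 ht), wS_mulVec h (inv_ne_zero ht)]
  split_ifs with h1 h2 <;> subst_vars <;> first | contradiction | (simp; done) | (field_simp)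

theorem hS_coe {i j : ι} (h : i ≠ j) {t : F} (ht : t ≠ 0) :
    (hS i j t).1 = diagonal (SLMult.dd i j t) := by
  refine Matrix.toLin'.injective (LinearMap.ext fun v => funext fun r => ?_)
  simp only [Matrix.toLin'_apply, hS, Matrix.SpecialLinearGroup.coe_mul, ← Matrix.mulVec_mulVec,
    wS_mulVec h ht, wS_mulVec h (neg_ne_zero.2 one_ne_zero : (-1 : F) ≠ 0), Matrix.mulVec_diagonal,
    SLMult.dd, h, h.symm, if_false, if_true]
  split_ifs with h1 h2 <;> subst_vars <;> first | contradiction | (simp; done) | simp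

theorem wS_mul_inv {i j : ι} (h : i ≠ j) {t : F} (ht : t ≠ 0) : wS i j t * wS i j (-t) = 1 := by
  refine Classical.sl_ext_mulVec fun v => funext fun r => ?_
  rw [Matrix.SpecialLinearGroup.coe_mul, ← Matrix.mulVec_mulVec, wS_mulVec h ht,
    wS_mulVec h (neg_ne_zero.2 ht), wS_mulVec h (neg_ne_zero.2 ht), wS_mulVec h (neg_ne_zero.2 ht)]
  simp only [Matrix.SpecialLinearGroup.coe_one, Matrix.one_mulVec, h.symm, if_false, if_true]
  split_ifs with h1 h2 <;> subst_vars <;> first | contradiction | rfl | (field_simp)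

theorem wS_pair {i j : ι} (h : i ≠ j) {t χ : F} (ht : t ≠ 0) (hχ : χ ≠ 0) :
    wS i j (χ * t) * wS i j (χ * -1) = hS i j t := by
  refine Classical.sl_ext_mulVec fun v => funext fun r => ?_
  simp only [hS, Matrix.SpecialLinearGroup.coe_mul, ← Matrix.mulVec_mulVec,
    wS_mulVec h (mul_ne_zero hχ ht), wS_mulVec h ht,
    wS_mulVec h (mul_ne_zero hχ (neg_ne_zero.2 one_ne_zero : (-1 : F) ≠ 0)),
    wS_mulVec h (neg_ne_zero.2 one_ne_zero : (-1 : F) ≠ 0), h, h.symm, if_false, if_true]
  split_ifs with h1 h2 <;> subst_vars <;> first | contradiction | rfl | (field_simp)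

theorem hS_mul {i j : ι} (h : i ≠ j) {t u : F} (ht : t ≠ 0) (hu : u ≠ 0) :
    hS i j t * hS i j u = hS i j (t * u) := by
  refine Subtype.ext ?_
  rw [Matrix.SpecialLinearGroup.coe_mul, hS_coe h ht, hS_coe h hu, hS_coe h (mul_ne_zero ht hu),
    Matrix.diagonal_mul_diagonal]
  congr 1
  funext r
  simp only [SLMult.dd]
  split_ifs <;> simp [mul_comm]

end SL

variable {F : Type u} [Field F] [Fintype F] {n : ℕ} {Γ : Type u} [Group Γ] [Finite Γ]

local notation "I" => Fin n ⊕ Fin n

/-- A monomial element of the orthogonal group, with the given permutation and scalars. -/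
def IsMonO (g : OG F n) (τ : Equiv.Perm I) (c : I → F) : Prop :=
  (∀ i, τ (bar i) = bar (τ i)) ∧ (∀ i, c i * c (bar i) = 1) ∧
    ∀ i, act g (Pi.single i 1) = Pi.single (τ i) (c i)

theorem IsMonO.ne_zero {g : OG F n} {τ : Equiv.Perm I} {c : I → F} (h : IsMonO g τ c) (i : I) : c i ≠ 0 :=
  left_ne_zero_of_mul (by rw [h.2.1 i]; exact one_ne_zero)

theorem act_single (g : OG F n) (i : I) (x : F) :
    act g (Pi.single i x) = x • act g (Pi.single i 1) := by
  rw [act, act, ← Matrix.mulVec_smul, ← Pi.single_smul', smul_eq_mul, mul_one]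

theorem IsMonO.single {g : OG F n} {τ : Equiv.Perm I} {c : I → F} (h : IsMonO g τ c) (i : I) (x : F) :
    act g (Pi.single i x) = Pi.single (τ i) (x * c i) := by
  rw [act_single, h.2.2, ← Pi.single_smul', smul_eq_mul]

theorem isMonO_one : IsMonO (1 : OG F n) 1 fun _ => 1 :=
  ⟨fun _ => rfl, fun _ => one_mul 1, fun _ => act_one _⟩

theorem IsMonO.mul {g g' : OG F n} {τ τ' : Equiv.Perm I} {c c' : I → F} (h : IsMonO g τ c)
    (h' : IsMonO g' τ' c') : IsMonO (g * g') (τ * τ') fun i => c' i * c (τ' i) := by
  refine ⟨fun i => by simp [h'.1, h.1], fun i => ?_, fun i => ?_⟩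
  · beta_reduce; rw [h'.1]
    linear_combination (c (τ' i) * c (bar (τ' i))) * h'.2.1 i + h.2.1 (τ' i)
  · rw [act_mul, h'.2.2, h.single]; rfl

theorem IsMonO.inv {g : OG F n} {τ : Equiv.Perm I} {c : I → F} (h : IsMonO g τ c) :
    IsMonO g⁻¹ τ⁻¹ fun i => (c (τ⁻¹ i))⁻¹ := by
  have hb : ∀ i, τ⁻¹ (bar i) = bar (τ⁻¹ i) := fun i => τ.injective (by simp [h.1])
  refine ⟨hb, fun i => ?_, fun i => ?_⟩
  · beta_reduce; rw [hb, ← mul_inv, h.2.1, inv_one]
  · have := h.single (τ⁻¹ i) (c (τ⁻¹ i))⁻¹
    rw [Equiv.Perm.coe_inv, Equiv.apply_symm_apply, inv_mul_cancel₀ (h.ne_zero _)] at this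
    rw [← this, ← act_mul, inv_mul_cancel, act_one]; rfl

theorem IsMonO.perm_unique {g : OG F n} {τ τ' : Equiv.Perm I} {c c' : I → F} (h : IsMonO g τ c)
    (h' : IsMonO g τ' c') : τ = τ' :=
  Equiv.ext fun i => by
    by_contra hne
    have := congrFun ((h.2.2 i).symm.trans (h'.2.2 i)) (τ i)
    rw [Pi.single_eq_same, Pi.single_eq_of_ne hne] at this
    exact h.ne_zero i this

theorem IsMonO.ok {g : OG F n} {τ : Equiv.Perm I} {c : I → F} (h : IsMonO g τ c) {a b : I} (hab : Ok a b) :
    Ok (τ a) (τ b) :=
  ⟨fun e => hab.1 (τ.injective e), fun e => hab.2 (τ.injective (e.trans (h.1 a).symm))⟩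

theorem act_el_single {a b : I} (h : Ok a b) (t : F) (i : I) :
    act (el h t) (Pi.single i 1) = Pi.single i 1 + Pi.single a (if i = bar b then t else 0) +
      Pi.single b (if i = bar a then -t else 0) := by
  funext j
  simp only [el_apply, Pi.add_apply, Pi.single_apply, eq_comm (a := bar b) (b := i),
    eq_comm (a := bar a) (b := i)]
  split_ifs <;> ring

theorem IsMonO.conj_el {g : OG F n} {τ : Equiv.Perm I} {c : I → F} (h : IsMonO g τ c) {a b : I}
    (hab : Ok a b) (t : F) : g * el hab t * g⁻¹ = el (h.ok hab) (c a * c b * t) := by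
  rw [mul_inv_eq_iff_eq_mul]
  refine ext_single fun i => ?_
  simp only [act_mul, act_el_single, h.2.2, act_add, h.single]
  rw [act_single (el (h.ok hab) _) (τ i) (c i), act_el_single, smul_add, smul_add, ← Pi.single_smul',
    ← Pi.single_smul', ← Pi.single_smul', smul_eq_mul, smul_eq_mul, smul_eq_mul, mul_one]
  have e : ∀ x, (τ i = bar (τ x)) ↔ i = bar x := fun x => by rw [← h.1, τ.injective.eq_iff]
  simp only [e, mul_ite, mul_zero, ite_mul, zero_mul]
  congr 1
  · congr 1
    split_ifs with hi
    · subst hi; congr 1; linear_combination -(c a * t) * h.2.1 b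
    · rfl
  · split_ifs with hi
    · subst hi; congr 1; linear_combination (c b * t) * h.2.1 a
    · rfl

variable (E : Ext F n Γ)

section Nat_

variable {s : Fin n → Fin n ⊕ Fin n}

/-- A vector supported on a section. -/
def emb (s : Fin n → I) (v : Fin n → F) : I → F := fun x => if s (levF x) = x then v (levF x) else 0

theorem levF_sec (hs : IsSec s) (i : Fin n) : levF (s i) = i := levF_eq.2 (hs i)

theorem emb_self (hs : IsSec s) (v : Fin n → F) (i : Fin n) : emb s v (s i) = v i := by
  simp [emb, levF_sec hs]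

theorem emb_bar (hs : IsSec s) (v : Fin n → F) (i : Fin n) : emb s v (bar (s i)) = 0 := by
  rw [emb, levF_bar, levF_sec hs, if_neg]
  exact fun e => bar_ne (s i) e.symm

theorem isSec_bar (hs : IsSec s) : IsSec fun i => bar (s i) := fun i => by rw [lev_bar, hs]

theorem emb_single (hs : IsSec s) (i : Fin n) (x : F) : emb s (Pi.single i x) = Pi.single (s i) x := by
  funext r
  by_cases h : r = s i
  · subst h; simp [emb_self hs]
  · rw [Pi.single_eq_of_ne h, emb]
    split_ifs with h'
    · exact Pi.single_eq_of_ne (fun e => h (by rw [← h', e])) _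
    · rfl

/-- The lift of the linear group acts naturally on a section and dually on the opposite one. -/
theorem σ_f_nat (hs : IsSec s) (g : SpecialLinearGroup (Fin n) F) :
    ∀ v : Fin n → F, act (E.σ (f E hs g)) (emb s v) = emb s (g.1 *ᵥ v) ∧
      act (E.σ (f E hs g)) (emb (fun i => bar (s i)) (g.1ᵀ *ᵥ v)) = emb (fun i => bar (s i)) v := by
  let P : Subgroup (SpecialLinearGroup (Fin n) F) :=
    { carrier := {g | ∀ v, act (E.σ (f E hs g)) (emb s v) = emb s (g.1 *ᵥ v) ∧
        act (E.σ (f E hs g)) (emb (fun i => bar (s i)) (g.1ᵀ *ᵥ v)) = emb (fun i => bar (s i)) v}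
      one_mem' := fun v => by simp [map_one, act_one]
      mul_mem' := fun {a b} ha hb v => by
        refine ⟨?_, ?_⟩
        · rw [map_mul, map_mul, act_mul, (hb v).1, (ha _).1, Matrix.SpecialLinearGroup.coe_mul,
            Matrix.mulVec_mulVec]
        · rw [map_mul, map_mul, act_mul, Matrix.SpecialLinearGroup.coe_mul, Matrix.transpose_mul,
            ← Matrix.mulVec_mulVec, (hb _).2, (ha v).2]
      inv_mem' := fun {a} ha v => by
        have hinv : a.1 * (a⁻¹).1 = 1 := by
          rw [← Matrix.SpecialLinearGroup.coe_mul, mul_inv_cancel, Matrix.SpecialLinearGroup.coe_one]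
        refine ⟨?_, ?_⟩
        · have := congrArg (act (E.σ (f E hs a⁻¹))) (ha ((a⁻¹).1 *ᵥ v)).1
          rw [← act_mul, ← map_mul, ← map_mul, inv_mul_cancel, map_one, map_one, act_one,
            Matrix.mulVec_mulVec, hinv, Matrix.one_mulVec] at this
          exact this.symm
        · have := congrArg (act (E.σ (f E hs a⁻¹))) (ha v).2
          rw [← act_mul, ← map_mul, ← map_mul, inv_mul_cancel, map_one, map_one, act_one] at this
          have h2 := congrArg (act (E.σ (f E hs a⁻¹))) (ha ((a⁻¹).1ᵀ *ᵥ v)).2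
          rw [← act_mul, ← map_mul, ← map_mul, inv_mul_cancel, map_one, map_one, act_one,
            Matrix.mulVec_mulVec, ← Matrix.transpose_mul, ← Matrix.SpecialLinearGroup.coe_mul,
            inv_mul_cancel, Matrix.SpecialLinearGroup.coe_one, Matrix.transpose_one,
            Matrix.one_mulVec] at h2
          exact h2.symm }
  have hP : P = ⊤ := Classical.sl_eq_top_of_transvection P fun i j hij c => by
    rw [← SLMult.tx_eq hij]
    intro v
    rw [σ_f E hs hij]
    refine ⟨funext fun r => ?_, funext fun r => ?_⟩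
    · rw [el_apply, bar_bar, emb_self hs, emb_bar hs, SLMult.tx_eq hij,
        Matrix.SpecialLinearGroup.transvection_coe, Classical.tv_mulVec]
      simp only [mul_zero, ite_self, sub_zero]
      by_cases hr : r = s i
      · subst hr; simp [emb_self hs]
      · rw [if_neg hr, add_zero, emb, emb]
        split_ifs with h'
        · have : levF r ≠ i := fun e => hr (by rw [← h', e])
          simp [this]
        · rfl
    · have hb := isSec_bar hs
      have e1 : ∀ (v : Fin n → F) (k : Fin n), emb (fun i => bar (s i)) v (bar (s k)) = v k :=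
        fun v k => emb_self hb v k
      have e2 : ∀ (v : Fin n → F) (k : Fin n), emb (fun i => bar (s i)) v (s k) = 0 := fun v k => by
        simpa [bar_bar] using emb_bar hb v k
      have hg : (tx i j c : SpecialLinearGroup (Fin n) F).1ᵀ *ᵥ v = v + Pi.single j (c * v i) := by
        rw [SLMult.tx_eq hij, Matrix.SpecialLinearGroup.transvection_coe, Matrix.transpose_add,
          Matrix.transpose_one, Matrix.transpose_single,
          Classical.tv_mulVec]
      rw [el_apply, bar_bar, e2, e1, hg]
      simp only [mul_zero, ite_self, add_zero, Pi.add_apply, Pi.single_eq_of_ne hij]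
      by_cases hr : r = bar (s j)
      · subst hr; simp [e1]
      · rw [if_neg hr, sub_zero, emb, emb]
        split_ifs with h'
        · have : levF r ≠ j := fun e => hr (by rw [← h', e])
          simp [this]
        · rfl
  exact (hP ▸ Subgroup.mem_top g : g ∈ P)

end Nat_

end Cfsg.Agent.DMult
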