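import Cfsg.Agent.DMult.Nat

/-!
The canonical lifts of the root elements of the split orthogonal group in a central extension satisfy
the Steinberg relations of type `D_n`.
-/

set_option autoImplicit false
set_option linter.unusedSectionVars false

open Matrix
open scoped commutatorElement MatrixGroups

namespace Cfsg.Agent.DMult

open Chev.Ortho CurtisTitsD
open SLMult (tx)

universe u

variable {F : Type u} [Field F] [Fintype F] {n : ℕ} {Γ : Type u} [Group Γ] [Finite Γ]

local notation "I" => Fin n ⊕ Fin n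

variable (E : Ext F n Γ)

open scoped _root_.Classical in
/-- Some lift of a root element. -/
noncomputable def lft (a b : I) (t : F) : Γ := if h : Ok a b then (E.el_mem a b h t).choose else 1

theorem σ_lft {a b : I} (h : Ok a b) (t : F) : E.σ (lft E a b t) = el h t := by
  rw [lft, dif_pos h]; exact (E.el_mem a b h t).choose_spec

/-- The canonical lift of a root element. -/
noncomputable def X (a b : I) (t : F) : Γ :=
  ⁅lft E a (bar (exists_third E a b).choose) t, lft E (exists_third E a b).choose b 1⁆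

theorem br_eq_f {s : Fin n → I} (hs : IsSec s) {i j k : Fin n} (hij : i ≠ j) (hjk : k ≠ j) (hik : i ≠ k)
    {x y : Γ} {t u : F} (hx : E.σ x = el (hs.ok hik) t) (hy : E.σ y = el (hs.ok hjk) u) :
    ⁅x, y⁆ = f E hs (tx i j (t * u)) := by
  rw [← SLMult.tx_rel hik hjk hij, map_commutatorElement]
  exact br_indep E.central (by rw [hx, σ_f E hs hik]) (by rw [hy, σ_f E hs hjk])

/-- Two opposite middle indices give the same lift in odd characteristic. -/
theorem br_eq_bar (h2 : (2 : F) ≠ 0) {a b c : I} (hab : lev a ≠ lev b) (hca : lev c ≠ lev a)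
    (hcb : lev c ≠ lev b) (t : F) :
    ⁅lft E a (bar c) t, lft E c b 1⁆ = ⁅lft E a (bar (bar c)) t, lft E (bar c) b 1⁆ := by
  obtain ⟨s, hs, sa, sb, sc, -⟩ := exists_sec a (bar b) c c
  obtain ⟨s', hs', sa', sb', sc', -⟩ := exists_sec a (bar b) (bar c) c
  have hb : ∀ {r : Fin n → I}, r (levF (bar b)) = bar b → bar (r (levF b)) = b := fun e => by
    rw [levF_bar] at e; rw [e, bar_bar]
  have hsb := hb (sb (by rw [lev_bar]; exact hab.symm))
  have hsb' := hb (sb' (by rw [lev_bar]; exact hab.symm))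
  have hsc := sc hca (by rwa [lev_bar])
  have hsc' : s' (levF c) = bar c := by
    have := sc' (by rwa [lev_bar]) (by rwa [lev_bar, lev_bar]); rwa [levF_bar] at this
  set i := levF a with hi
  set j := levF b with hj
  set k := levF c with hk
  have nij : i ≠ j := levF_ne.2 hab
  have nik : i ≠ k := levF_ne.2 hca.symm
  have nkj : k ≠ j := levF_ne.2 hcb
  have h1 : (-1 : F) ≠ 0 := neg_ne_zero.2 one_ne_zero
  have keyA : ∀ {r : Fin n → I} (hr : IsSec r) (x : I), r i = a → bar (r j) = b → r k = x → levF x = k →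
      ∀ (p q : F) (P Q : Γ), (∀ hh : Ok a (bar x), E.σ P = el hh p) → (∀ hh : Ok x b, E.σ Q = el hh q) →
        ⁅P, Q⁆ = f E hr (tx i j (p * q)) := by
    intro r hr x ra rb rx hx p q P Q hP hQ
    refine br_eq_f E hr nij nkj nik ?_ ?_
    · rw [hP (ok_of_lev (by rw [lev_bar, ← lev_levF, ← lev_levF x, hx]; exact fun e => nik (Fin.ext e)))]
      exact el_congr _ _ ra.symm (by rw [rx]) p
    · rw [hQ (ok_of_lev (by rw [← lev_levF x, ← lev_levF b, hx]; exact fun e => nkj (Fin.ext e)))]
      exact el_congr _ _ rx.symm rb.symm q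
  set A : F → Γ := fun u => f E hs (tx i j u) with hA
  set B : F → Γ := fun u => f E hs' (tx i j u) with hB
  have eA : ∀ u, ⁅lft E a (bar c) u, lft E c b 1⁆ = A u := fun u => by
    rw [keyA hs c sa hsb hsc rfl u 1 _ _ (fun hh => σ_lft E hh u) (fun hh => σ_lft E hh 1), mul_one]
  have eB : ∀ u, ⁅lft E a (bar (bar c)) u, lft E (bar c) b 1⁆ = B u := fun u => by
    rw [keyA hs' (bar c) sa' hsb' hsc' (levF_bar c) u 1 _ _ (fun hh => σ_lft E hh u)
      (fun hh => σ_lft E hh 1), mul_one]
  rw [eA, eB]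
  set g := f E hs (hS i k (-1)) with hg
  set co : I → F := fun x => SLMult.dd i k (-1) (levF x) with hco
  have hmon : IsMonO (E.σ g) 1 co := by
    refine ⟨fun _ => rfl, fun x => ?_, fun x => ?_⟩
    · simp only [hco, levF_bar, SLMult.dd]
      split_ifs <;> simp
    · have hx : s (levF x) = x ∨ bar (s (levF x)) = x := by
        rcases lev_eq (show lev (s (levF x)) = lev x by rw [hs, lev_levF]) with e | e
        · exact Or.inl e
        · exact Or.inr (by rw [e, bar_bar])
      rcases hx with e | e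
      · have := (σ_f_nat E hs (hS i k (-1)) (Pi.single (levF x) 1)).1
        rw [emb_single hs, hS_coe nik h1, Matrix.diagonal_mulVec_single, mul_one, emb_single hs, e] at this
        exact this
      · have := (σ_f_nat E hs (hS i k (-1)) (Pi.single (levF x) (co x))).2
        rw [emb_single (isSec_bar hs), hS_coe nik h1, Matrix.diagonal_transpose,
          Matrix.diagonal_mulVec_single, emb_single (isSec_bar hs), e] at this
        rw [show SLMult.dd i k (-1) (levF x) * co x = 1 by
          simp only [hco, SLMult.dd]; split_ifs <;> simp] at this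
        exact this
  have hconj : ∀ u, g * A u * g⁻¹ = A (-u) ∧ g * B u * g⁻¹ = B (-u) := by
    have hcoa : co a = -1 := by simp [hco, SLMult.dd, hi]
    have hcob : co b = 1 := by simp [hco, SLMult.dd, nij.symm, nkj.symm, ← hj]
    have hcoc : ∀ x, levF x = k → co x = -1 := fun x hx => by simp [hco, SLMult.dd, hx]
    have conj : ∀ {r : Fin n → I} (hr : IsSec r) (x : I), r i = a → bar (r j) = b → r k = x → levF x = k →
        ∀ u, g * ⁅lft E a (bar x) u, lft E x b 1⁆ * g⁻¹ = f E hr (tx i j (-u)) := by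
      intro r hr x ra rb rx hx u
      rw [show g * ⁅lft E a (bar x) u, lft E x b 1⁆ * g⁻¹ =
        ⁅g * lft E a (bar x) u * g⁻¹, g * lft E x b 1 * g⁻¹⁆ by simp only [commutatorElement_def]; group,
        keyA hr x ra rb rx hx u (-1) _ _ (fun hh => ?_) (fun hh => ?_), mul_neg_one]
      · rw [map_mul, map_mul, map_inv, σ_lft E hh, hmon.conj_el hh, hcoa, hcoc (bar x) (by rw [levF_bar, hx])]
        simp only [Equiv.Perm.one_apply, neg_one_mul, neg_neg, one_mul]
      · rw [map_mul, map_mul, map_inv, σ_lft E hh, hmon.conj_el hh, hcob, hcoc x hx]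
        simp only [Equiv.Perm.one_apply, mul_one]
    intro u
    refine ⟨?_, ?_⟩
    · rw [← eA u]; exact conj hs c sa hsb hsc rfl u
    · rw [← eB u]; exact conj hs' (bar c) sa' hsb' hsc' (levF_bar c) u
  set K : F → Γ := fun u => (A u)⁻¹ * B u with hK
  have hKc : ∀ u y, y * K u = K u * y := fun u => Subgroup.mem_center_iff.1 (E.central (by
    rw [MonoidHom.mem_ker, map_mul, map_inv, hA, hB, σ_f E hs nij, σ_f E hs' nij,
      el_congr _ (hs.ok nij) (sa'.trans sa.symm) (hsb'.trans hsb.symm), inv_mul_cancel]))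
  have hKadd : ∀ u v, K (u + v) = K u * K v := fun u v => by
    show (f E hs (tx i j (u + v)))⁻¹ * f E hs' (tx i j (u + v)) = _
    rw [SLMult.tx_add nij, map_mul, map_mul]
    show (A u * A v)⁻¹ * (B u * B v) = _
    rw [show (A u * A v)⁻¹ * (B u * B v) = (A v)⁻¹ * K u * B v by simp only [hK]; group, hKc u (A v)⁻¹,
      mul_assoc]
  have hKneg : ∀ u, K (-u) = K u := fun u => by
    calc K (-u) = (g * A u * g⁻¹)⁻¹ * (g * B u * g⁻¹) := by rw [(hconj u).1, (hconj u).2]
      _ = g * K u * g⁻¹ := by simp only [hK]; group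
      _ = K u := by rw [hKc u g, mul_inv_cancel_right]
  have hK0 : K 0 = 1 := by
    have := hKadd 0 0; rw [add_zero] at this; exact left_eq_mul.1 this
  have hK1 : K t = 1 := by
    rw [show t = t / 2 + t / 2 by field_simp; ring, hKadd]
    nth_rewrite 2 [← hKneg]
    rw [← hKadd, add_neg_cancel, hK0]
  exact inv_mul_eq_one.1 hK1

theorem br_eq {a b c c' : I} (hab : lev a ≠ lev b) (hca : lev c ≠ lev a) (hcb : lev c ≠ lev b)
    (hca' : lev c' ≠ lev a) (hcb' : lev c' ≠ lev b) (t : F) :
    ⁅lft E a (bar c) t, lft E c b 1⁆ = ⁅lft E a (bar c') t, lft E c' b 1⁆ := by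
  rcases E.good with hG | ⟨X, hσ, -, -, hrel⟩
  swap
  · have key : ∀ d : I, lev d ≠ lev a → lev d ≠ lev b →
        ⁅lft E a (bar d) t, lft E d b 1⁆ = X a b (t * 1) := fun d hda hdb => by
      have o1 : Ok a (bar d) := ok_of_lev (by rw [lev_bar]; exact hda.symm)
      rw [← hrel a b d hab hda.symm hdb t 1]
      exact br_indep E.central (by rw [σ_lft E o1, hσ _ _ o1])
        (by rw [σ_lft E (ok_of_lev hdb), hσ _ _ (ok_of_lev hdb)])
    rw [key c hca hcb, key c' hca' hcb']
  have main : ∀ c c' : I, lev c ≠ lev a → lev c ≠ lev b → lev c' ≠ lev a → lev c' ≠ lev b →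
      lev c' ≠ lev c → ⁅lft E a (bar c) t, lft E c b 1⁆ = ⁅lft E a (bar c') t, lft E c' b 1⁆ := by
    intro c c' h1 h2 h3 h4 h5
    obtain ⟨s, hs, sa, sb, sc, sd⟩ := exists_sec a (bar b) c c'
    have hb : s (levF b) = bar b := by
      have := sb (by rw [lev_bar]; exact hab.symm); rwa [levF_bar] at this
    have hc := sc h1 (by rwa [lev_bar])
    have hc' := sd h3 (by rwa [lev_bar]) h5
    have key : ∀ d : I, lev d ≠ lev a → lev d ≠ lev b → s (levF d) = d →
        ⁅lft E a (bar d) t, lft E d b 1⁆ = f E hs (tx (levF a) (levF b) (t * 1)) := by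
      intro d hda hdb hd
      refine br_eq_f E hs (k := levF d) (levF_ne.2 hab) (levF_ne.2 hdb) (levF_ne.2 hda.symm) ?_ ?_
      · rw [σ_lft E (ok_of_lev (by rw [lev_bar]; exact hda.symm))]
        exact el_congr _ _ sa.symm (by rw [hd]) t
      · rw [σ_lft E (ok_of_lev hdb)]
        exact el_congr _ _ hd.symm (by rw [hb, bar_bar]) 1
    rw [key c h1 h2 hc, key c' h3 h4 hc']
  by_cases h : lev c' = lev c
  · by_cases h4 : 4 ≤ n
    · obtain ⟨d, hda, hdb, hdc⟩ := exists_fourth h4 a b c
      rw [main c d hca hcb hda hdb hdc, main d c' hda hdb hca' hcb' (by rw [h]; exact hdc.symm)]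
    · rcases lev_eq h with e | e
      · rw [e]
      · subst e
        exact br_eq_bar E (hG.2 (by have := E.three; omega)) hab hca hcb t
  · exact main c c' hca hcb hca' hcb' h

theorem X_eq_br {a b c : I} (hab : lev a ≠ lev b) (hca : lev c ≠ lev a) (hcb : lev c ≠ lev b) (t : F) :
    X E a b t = ⁅lft E a (bar c) t, lft E c b 1⁆ :=
  br_eq E hab (exists_third E a b).choose_spec.1 (exists_third E a b).choose_spec.2 hca hcb t

theorem X_eq_f {s : Fin n → I} (hs : IsSec s) {i j : Fin n} (h : i ≠ j) {a b : I} (ha : s i = a)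
    (hb : bar (s j) = b) (t : F) : X E a b t = f E hs (tx i j t) := by
  subst ha; subst hb
  obtain ⟨k, hk⟩ := SLMult.exists_index ({i, j} : Finset (Fin n)) Finset.card_le_two
    (by rw [Fintype.card_fin]; have := E.three; omega)
  simp only [Finset.mem_insert, Finset.mem_singleton, not_or] at hk
  rw [X_eq_br E (c := s k) (by rw [lev_bar]; exact hs.lev_ne h) (hs.lev_ne hk.1)
    (by rw [lev_bar]; exact hs.lev_ne hk.2) t,
    br_eq_f E hs (u := 1) h hk.2 (Ne.symm hk.1) (σ_lft E _ _) (σ_lft E _ _), mul_one]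

/-- A section giving two root elements. -/
theorem exists_sec_root {a b : I} (h : lev a ≠ lev b) :
    ∃ (s : Fin n → I) (_ : IsSec s), s (levF a) = a ∧ bar (s (levF b)) = b := by
  obtain ⟨s, hs, sa, sb, -, -⟩ := exists_sec a (bar b) a a
  refine ⟨s, hs, sa, ?_⟩
  have := sb (by rw [lev_bar]; exact h.symm)
  rw [levF_bar] at this
  rw [this, bar_bar]

theorem σ_X {a b : I} (h : Ok a b) (t : F) : E.σ (X E a b t) = el h t := by
  obtain ⟨s, hs, sa, sb⟩ := exists_sec_root (lev_ne_of_ok h)
  have hne := levF_ne.2 (lev_ne_of_ok h)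
  rw [X_eq_f E hs hne sa sb, σ_f E hs hne]
  exact el_congr _ _ sa sb t

theorem X_add {a b : I} (h : lev a ≠ lev b) (t u : F) : X E a b (t + u) = X E a b t * X E a b u := by
  obtain ⟨s, hs, sa, sb⟩ := exists_sec_root h
  have hne := levF_ne.2 h
  simp only [X_eq_f E hs hne sa sb, SLMult.tx_add hne, map_mul]

theorem X_zero {a b : I} (h : lev a ≠ lev b) : X E a b (0 : F) = 1 := by
  have := X_add E h 0 0
  rw [add_zero] at this
  exact left_eq_mul.1 this

theorem X_inv {a b : I} (h : lev a ≠ lev b) (t : F) : (X E a b t)⁻¹ = X E a b (-t) := by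
  refine inv_eq_of_mul_eq_one_right ?_
  rw [← X_add E h, add_neg_cancel, X_zero E h]

theorem X_self_comm {a b : I} (h : lev a ≠ lev b) (t u : F) : Commute (X E a b t) (X E a b u) := by
  rw [commute_iff_eq, ← X_add E h, add_comm, X_add E h]

/-- The commutator relation. -/
theorem X_rel {a b c : I} (hab : lev a ≠ lev b) (hac : lev a ≠ lev c) (hcb : lev c ≠ lev b) (t u : F) :
    ⁅X E a (bar c) t, X E c b u⁆ = X E a b (t * u) := by
  obtain ⟨s, hs, sa, sb, sc, -⟩ := exists_sec a (bar b) c c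
  have hb : bar (s (levF b)) = b := by
    have := sb (by rw [lev_bar]; exact hab.symm)
    rw [levF_bar] at this; rw [this, bar_bar]
  have hc := sc hac.symm (by rwa [lev_bar])
  rw [X_eq_f E hs (levF_ne.2 hac) sa (by rw [hc]), X_eq_f E hs (levF_ne.2 hcb) hc hb,
    X_eq_f E hs (levF_ne.2 hab) sa hb, ← map_commutatorElement,
    SLMult.tx_rel (levF_ne.2 hac) (levF_ne.2 hcb) (levF_ne.2 hab)]

theorem X_swap {a b : I} (h : lev a ≠ lev b) (t : F) : X E b a t = X E a b (-t) := by
  obtain ⟨c, hca, hcb⟩ := exists_third E a b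
  obtain ⟨s, hs, sb, sa, sc, -⟩ := exists_sec b (bar a) c c
  have ha : bar (s (levF a)) = a := by
    have := sa (by rw [lev_bar]; exact h)
    rw [levF_bar] at this; rw [this, bar_bar]
  have hc := sc hcb (by rwa [lev_bar])
  have hba := levF_ne.2 h.symm
  rw [X_eq_f E hs hba sb ha]
  have hok1 : Ok a (bar (bar c)) := ok_of_lev (by rw [lev_bar, lev_bar]; exact hca.symm)
  have hok2 : Ok (bar c) b := ok_of_lev (by rw [lev_bar]; exact hcb)
  have hswap : ∀ {p q : I} (g : Ok p q) (x : F), el g x = el (ok_swap g) (-x) :=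
    fun g x => el_swap (ok_swap g) g x
  rw [X_eq_br E h (c := bar c) (by rwa [lev_bar]) (by rwa [lev_bar])]
  have e1 : E.σ (lft E a (bar (bar c)) (-t)) = E.σ (f E hs (tx (levF c) (levF a) t)) := by
    rw [σ_lft E hok1, σ_f E hs (levF_ne.2 hca), hswap hok1, neg_neg]
    exact el_congr _ _ (by rw [bar_bar, hc]) ha.symm t
  have e2 : E.σ (lft E (bar c) b 1) = E.σ (f E hs (tx (levF b) (levF c) (-1))) := by
    rw [σ_lft E hok2, σ_f E hs (levF_ne.2 hcb.symm), hswap hok2]
    exact el_congr _ _ sb.symm (by rw [hc]) _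
  rw [br_indep E.central e1 e2, ← map_commutatorElement, ← commutatorElement_inv,
    SLMult.tx_rel (levF_ne.2 hcb.symm) (levF_ne.2 hca) hba, map_inv]
  refine (inv_eq_of_mul_eq_one_right ?_).symm
  rw [← map_mul, ← SLMult.tx_add hba, show -1 * t + t = (0 : F) by ring, SLMult.tx_zero, map_one]

/-- Conjugation follows the projection. -/
theorem X_conj (g : Γ) {a b c a' b' c' : I} (hab : lev a ≠ lev b) (hca : lev c ≠ lev a)
    (hcb : lev c ≠ lev b) (hab' : lev a' ≠ lev b') (hca' : lev c' ≠ lev a') (hcb' : lev c' ≠ lev b')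
    {α β : F} (h1 : ∀ (h : Ok a (bar c)) (h' : Ok a' (bar c')) (t : F),
      E.σ g * el h t * (E.σ g)⁻¹ = el h' (α * t))
    (h2 : ∀ (h : Ok c b) (h' : Ok c' b') (t : F), E.σ g * el h t * (E.σ g)⁻¹ = el h' (β * t)) (t : F) :
    g * X E a b t * g⁻¹ = X E a' b' (α * β * t) := by
  have o1 : Ok a (bar c) := ok_of_lev (by rw [lev_bar]; exact hca.symm)
  have o1' : Ok a' (bar c') := ok_of_lev (by rw [lev_bar]; exact hca'.symm)
  have o2 : Ok c b := ok_of_lev hcb
  have o2' : Ok c' b' := ok_of_lev hcb'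
  rw [X_eq_br E hab hca hcb]
  rw [show α * β * t = α * t * β by ring, ← X_rel E hab' hca'.symm hcb']
  rw [show g * ⁅lft E a (bar c) t, lft E c b 1⁆ * g⁻¹ =
    ⁅g * lft E a (bar c) t * g⁻¹, g * lft E c b 1 * g⁻¹⁆ by simp only [commutatorElement_def]; group]
  refine br_indep E.central ?_ ?_
  · rw [map_mul, map_mul, map_inv, σ_lft E o1, σ_X E o1', h1 o1 o1']
  · rw [map_mul, map_mul, map_inv, σ_lft E o2, σ_X E o2', h2 o2 o2', mul_one]

/-- Root elements with a common index and opposite second indices commute. -/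
theorem X_opp {a b : I} (h : lev a ≠ lev b) (t u : F) :
    Commute (X E a b t) (X E a (bar b) u) := by
  suffices key : ∀ {c a b : I}, lev a ≠ lev b → lev c ≠ lev a → lev c ≠ lev b → ∀ t u : F,
      Commute (X E c b t) (X E c (bar b) u) by
    obtain ⟨c, hca, hcb⟩ := exists_third E a b
    exact key (c := a) (a := c) hcb hca.symm h t u
  intro c a b hab hca hcb t u
  set R := X E a b t
  set R' := X E a (bar b) u
  set T := X E c b t
  set T' := X E c (bar b) u
  set g := X E c (bar a) (1 : F)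
  set B := ⁅R, R'⁆
  have hab' : lev a ≠ lev (bar b) := by rwa [lev_bar]
  have hcb' : lev c ≠ lev (bar b) := by rwa [lev_bar]
  have hRT : ⁅g, R⁆ = T := by
    have := X_rel E (a := c) (c := a) hcb hca hab 1 t
    rwa [one_mul] at this
  have hRT' : ⁅g, R'⁆ = T' := by
    have := X_rel E (a := c) (c := a) hcb' hca hab' 1 u
    rwa [one_mul] at this
  have hBz : ∀ x : Γ, B * x = x * B := fun x => by
    refine (Subgroup.mem_center_iff.1 (E.central ?_) x).symm
    rw [MonoidHom.mem_ker, map_commutatorElement, σ_X E (ok_of_lev hab), σ_X E (ok_of_lev hab'),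
      commutatorElement_eq_one_iff_commute]
    exact el_comm_opp _ _ t u
  have hCz : ∀ x : Γ, ⁅T, T'⁆ * x = x * ⁅T, T'⁆ := fun x => by
    refine (Subgroup.mem_center_iff.1 (E.central ?_) x).symm
    rw [MonoidHom.mem_ker, map_commutatorElement, σ_X E (ok_of_lev hcb), σ_X E (ok_of_lev hcb'),
      commutatorElement_eq_one_iff_commute]
    exact el_comm_opp _ _ t u
  set S₁ := ⁅R, T'⁆ with hS₁
  set S₂ := ⁅T, R'⁆ with hS₂
  have e1 : S₁ = X E a c (t * (-u)) := by
    show ⁅X E a b t, X E c (bar b) u⁆ = _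
    rw [X_swap E (a := bar b) (b := c) (by rwa [ne_comm]) u]
    have := X_rel E (a := a) (c := bar b) (b := c) hca.symm hab' (Ne.symm hcb') t (-u)
    rwa [bar_bar] at this
  have e2 : S₂ = X E c a (t * (-u)) := by
    show ⁅X E c b t, X E a (bar b) u⁆ = _
    rw [X_swap E (a := bar b) (b := a) hab'.symm u]
    have := X_rel E (a := c) (c := bar b) (b := a) hca hcb' hab'.symm t (-u)
    rwa [bar_bar] at this
  have e12 : S₁ * S₂ = 1 := by
    rw [e1, e2, X_swap E hca.symm, ← X_add E hca.symm, add_neg_cancel, X_zero E hca.symm]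
  have hTS : Commute T S₂ := by
    rw [e2, show T = X E c b t from rfl]
    obtain ⟨s, hs, sc, sb, sa, -⟩ := exists_sec c (bar b) (bar a) a
    have hsb : bar (s (levF b)) = b := by
      have := sb (by rw [lev_bar]; exact hcb.symm); rw [levF_bar] at this; rw [this, bar_bar]
    have hsa : bar (s (levF a)) = a := by
      have := sa (by rw [lev_bar]; exact hca.symm) (by rwa [lev_bar, lev_bar])
      rw [levF_bar] at this; rw [this, bar_bar]
    rw [X_eq_f E hs (levF_ne.2 hcb) sc hsb, X_eq_f E hs (levF_ne.2 hca) sc hsa]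
    exact (SLMult.tx_comm (levF_ne.2 hcb) (levF_ne.2 hca) (levF_ne.2 hcb.symm) (levF_ne.2 hca) _ _).map _
  have hTS' : Commute T' S₂ := by
    rw [e2, show T' = X E c (bar b) u from rfl]
    obtain ⟨s, hs, sc, sb, sa, -⟩ := exists_sec c b (bar a) a
    have hsb : bar (s (levF (bar b))) = bar b := by
      rw [levF_bar, sb hcb.symm]
    have hsa : bar (s (levF a)) = a := by
      have := sa (by rw [lev_bar]; exact hca.symm) (by rwa [lev_bar])
      rw [levF_bar] at this; rw [this, bar_bar]
    rw [X_eq_f E hs (levF_ne.2 hcb') sc hsb, X_eq_f E hs (levF_ne.2 hca) sc hsa]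
    exact (SLMult.tx_comm (levF_ne.2 hcb') (levF_ne.2 hca) (levF_ne.2 hcb'.symm) (levF_ne.2 hca) _ _).map _
  have hTS₁ : Commute T S₁ := by
    have : S₁ = S₂⁻¹ := eq_inv_of_mul_eq_one_left e12
    rw [this]; exact hTS.inv_right
  -- conjugating the central commutator by `g`
  have hg : ⁅T * R, T' * R'⁆ = B := by
    rw [← hRT, ← hRT']
    have e : ∀ x : Γ, ⁅g, x⁆ * x = g * x * g⁻¹ := fun x => by rw [commutatorElement_def]; group
    rw [e, e, show ⁅g * R * g⁻¹, g * R' * g⁻¹⁆ = g * B * g⁻¹ by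
      simp only [B, commutatorElement_def]; group, ← hBz g, mul_inv_cancel_right]
  have expand : ⁅T * R, T' * R'⁆ =
      T * (S₁ * (T' * B * T'⁻¹)) * T⁻¹ * (⁅T, T'⁆ * (T' * S₂ * T'⁻¹)) := by
    simp only [S₁, S₂, B, commutatorElement_def]; group
  have hcomm : ⁅T, T'⁆ = 1 := by
    rw [expand, ← hBz T', mul_inv_cancel_right, hTS'.eq, mul_inv_cancel_right] at hg
    rw [show T * (S₁ * B) * T⁻¹ = S₁ * B by
      rw [← mul_assoc T, hTS₁.eq, mul_assoc S₁, ← hBz T, ← mul_assoc S₁ B T, mul_inv_cancel_right]] at hg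
    calc ⁅T, T'⁆ = B⁻¹ * B * (⁅T, T'⁆ * (S₁ * S₂)) := by rw [e12, mul_one, inv_mul_cancel, one_mul]
      _ = B⁻¹ * (S₁ * B * (⁅T, T'⁆ * S₂)) := by
        rw [← hBz S₁, ← mul_assoc (⁅T, T'⁆) S₁, hCz S₁]; group
      _ = 1 := by rw [hg, inv_mul_cancel]
  exact commutatorElement_eq_one_iff_commute.1 hcomm

/-- Root elements whose roots have no positive combination commute. -/
theorem X_comm {a b c d : I} (hab : lev a ≠ lev b) (hcd : lev c ≠ lev d) (h1 : bar b ≠ c)
    (h2 : bar b ≠ d) (h3 : bar a ≠ c) (h4 : bar a ≠ d) (t u : F) :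
    Commute (X E a b t) (X E c d u) := by
  have same : ∀ {a b d : I}, lev a ≠ lev b → lev a ≠ lev d → ∀ t u : F,
      Commute (X E a b t) (X E a d u) := by
    intro a b d hab had t u
    by_cases hbd : lev b = lev d
    · rcases lev_eq hbd with e | e
      · subst e; exact X_self_comm E hab t u
      · rw [e]; exact (X_opp E had u t).symm
    obtain ⟨s, hs, sa, sb, sd, -⟩ := exists_sec a (bar b) (bar d) a
    have hsb : bar (s (levF b)) = b := by
      have := sb (by rw [lev_bar]; exact hab.symm); rw [levF_bar] at this; rw [this, bar_bar]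
    have hsd : bar (s (levF d)) = d := by
      have := sd (by rw [lev_bar]; exact had.symm) (by rw [lev_bar, lev_bar]; exact Ne.symm hbd)
      rw [levF_bar] at this; rw [this, bar_bar]
    rw [X_eq_f E hs (levF_ne.2 hab) sa hsb, X_eq_f E hs (levF_ne.2 had) sa hsd]
    exact (SLMult.tx_comm (levF_ne.2 hab) (levF_ne.2 had) (levF_ne.2 hab.symm) (levF_ne.2 had) _ _).map _
  by_cases e1 : lev a = lev c
  · rcases lev_eq e1 with e | e
    · subst e; exact same hab hcd t u
    · exact absurd (by rw [e, bar_bar]) h3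
  by_cases e2 : lev a = lev d
  · rcases lev_eq e2 with e | e
    · subst e; rw [X_swap E hcd.symm u]; exact same hab hcd.symm t _
    · exact absurd (by rw [e, bar_bar]) h4
  by_cases e3 : lev b = lev c
  · rcases lev_eq e3 with e | e
    · subst e; rw [X_swap E hab.symm t]; exact same hab.symm hcd _ u
    · exact absurd (by rw [e, bar_bar]) h1
  by_cases e4 : lev b = lev d
  · rcases lev_eq e4 with e | e
    · subst e
      rw [X_swap E hab.symm t, X_swap E hcd.symm u]
      exact same hab.symm hcd.symm _ _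
    · exact absurd (by rw [e, bar_bar]) h2
  obtain ⟨s, hs, sa, sb, sc, sd⟩ := exists_sec a (bar b) c (bar d)
  have hsb : bar (s (levF b)) = b := by
    have := sb (by rw [lev_bar]; exact hab.symm); rw [levF_bar] at this; rw [this, bar_bar]
  have hsd : bar (s (levF d)) = d := by
    have := sd (by rw [lev_bar]; exact Ne.symm e2) (by rw [lev_bar, lev_bar]; exact Ne.symm e4)
      (by rw [lev_bar]; exact hcd.symm)
    rw [levF_bar] at this; rw [this, bar_bar]
  have hsc := sc (Ne.symm e1) (by rw [lev_bar]; exact Ne.symm e3)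
  rw [X_eq_f E hs (levF_ne.2 hab) sa hsb, X_eq_f E hs (levF_ne.2 hcd) hsc hsd]
  exact (SLMult.tx_comm (levF_ne.2 hab) (levF_ne.2 hcd) (levF_ne.2 e3) (levF_ne.2 e2) _ _).map _

end Cfsg.Agent.DMult
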