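import Cfsg.Agent.DMult.Kernel

/-!
A central extension of the split `Ω` inside the units of the endomorphisms of the exterior algebra, in which
the candidate kernel element acts as `-1` on the vacuum.
-/

set_option autoImplicit false
set_option linter.unusedSectionVars false
set_option linter.unusedSimpArgs false

open Matrix
open scoped commutatorElement

namespace Cfsg.Agent.DMult

open Chev.Ortho
open CurtisTitsD (ok_of_lev lev_ne_of_ok)

universe u

namespace Spin

variable {F : Type u} [Field F] [Fintype F] {n : ℕ}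

local notation "I" => Fin n ⊕ Fin n

/-- The spinor space. -/
abbrev Sp (F : Type u) [Field F] (n : ℕ) : Type u := ExteriorAlgebra F (Fin n → F)

theorem nm (x y : Module.End F (Sp F n)) : -x * y = -(x * y) := neg_mul x y

theorem mn (x y : Module.End F (Sp F n)) : x * -y = -(x * y) := mul_neg x y

/-- Creation and annihilation operators. -/
noncomputable def γ : Fin n ⊕ Fin n → Module.End F (Sp F n)
  | .inl i => LinearMap.mulLeft F (ExteriorAlgebra.ι F (Pi.single i 1))
  | .inr i => CliffordAlgebra.contractLeft (LinearMap.proj i)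

theorem γ_inl (i : Fin n) (x : Sp F n) :
    γ (Sum.inl i) x = ExteriorAlgebra.ι F (Pi.single i 1) * x := rfl

theorem γ_inr (i : Fin n) (x : Sp F n) :
    γ (Sum.inr i) x = CliffordAlgebra.contractLeft (LinearMap.proj i) x := rfl

theorem γ_sq (a : I) : (γ a * γ a : Module.End F (Sp F n)) = 0 := by
  refine LinearMap.ext fun x => ?_
  rcases a with i | i
  · rw [Module.End.mul_apply, γ_inl, γ_inl, ← mul_assoc, ExteriorAlgebra.ι_sq_zero, zero_mul]; rfl
  · rw [Module.End.mul_apply, γ_inr, γ_inr, CliffordAlgebra.contractLeft_contractLeft]; rfl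

theorem car (a b : I) :
    (γ a * γ b + γ b * γ a : Module.End F (Sp F n)) = if b = bar a then 1 else 0 := by
  refine LinearMap.ext fun x => ?_
  rw [LinearMap.add_apply, Module.End.mul_apply, Module.End.mul_apply]
  have mixed : ∀ i j, CliffordAlgebra.contractLeft (LinearMap.proj i)
      (ExteriorAlgebra.ι F (Pi.single j (1 : F)) * x) +
      ExteriorAlgebra.ι F (Pi.single j (1 : F)) * CliffordAlgebra.contractLeft (LinearMap.proj i) x =
      (Pi.single j (1 : F) : Fin n → F) i • x := fun i j => by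
    rw [show ExteriorAlgebra.ι F (Pi.single j (1 : F)) = CliffordAlgebra.ι (0 : QuadraticForm F (Fin n → F))
      (Pi.single j (1 : F)) from rfl, CliffordAlgebra.contractLeft_ι_mul, sub_add_cancel]
    rfl
  rcases a with i | i <;> rcases b with j | j
  · rw [if_neg (by simp [bar]), γ_inl, γ_inl, γ_inl, γ_inl, ← mul_assoc, ← mul_assoc, ← add_mul,
      ExteriorAlgebra.ι_add_mul_swap, zero_mul]
    rfl
  · rw [γ_inr, γ_inr, γ_inl, γ_inl, add_comm, mixed]
    by_cases h : j = i
    · subst h; simp [bar]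
    · simp [bar, h]
  · rw [γ_inr, γ_inr, γ_inl, γ_inl, mixed]
    by_cases h : i = j
    · subst h; simp [bar]
    · simp [bar, h, Ne.symm h]
  · rw [if_neg (by simp [bar]), γ_inr, γ_inr, γ_inr, γ_inr, CliffordAlgebra.contractLeft_comm, neg_add_cancel]
    rfl

theorem anti {a b : I} (h : lev a ≠ lev b) : (γ b * γ a : Module.End F (Sp F n)) = -(γ a * γ b) := by
  rw [eq_neg_iff_add_eq_zero, add_comm, car, if_neg]
  intro e; exact h (by rw [e, lev_bar])

theorem anti_ok {a b : I} (h : b ≠ bar a) : (γ b * γ a : Module.End F (Sp F n)) = -(γ a * γ b) := by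
  rw [eq_neg_iff_add_eq_zero, add_comm, car, if_neg h]

/-- The nilpotent operator of a root. -/
noncomputable def N (a b : Fin n ⊕ Fin n) : Module.End F (Sp F n) := γ a * γ b

theorem N_sq {a b : I} (h : lev a ≠ lev b) : (N a b * N a b : Module.End F (Sp F n)) = 0 := by
  rw [N, mul_assoc, ← mul_assoc (γ b), anti h, nm, mul_assoc (γ a), γ_sq, mul_zero, neg_zero, mul_zero]

open scoped _root_.Classical in
/-- The lift of a root element. -/
noncomputable def U (a b : Fin n ⊕ Fin n) (t : F) : (Module.End F (Sp F n))ˣ :=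
  if h : lev a ≠ lev b then
    { val := 1 + t • N a b
      inv := 1 - t • N a b
      val_inv := by simp [add_mul, mul_sub, N_sq h]
      inv_val := by simp [sub_mul, mul_add, N_sq h] }
  else 1

theorem U_val {a b : I} (h : lev a ≠ lev b) (t : F) :
    (U a b t : Module.End F (Sp F n)) = 1 + t • N a b := by rw [U, dif_pos h]

theorem U_inv_val {a b : I} (h : lev a ≠ lev b) (t : F) :
    (((U a b t)⁻¹ : (Module.End F (Sp F n))ˣ) : Module.End F (Sp F n)) = 1 - t • N a b := by
  rw [U, dif_pos h]; rfl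

/-- The linear map from the orthogonal space. -/
noncomputable def Γv (x : Fin n ⊕ Fin n → F) : Module.End F (Sp F n) := ∑ a, x a • γ a

theorem Γv_add (x y : I → F) : Γv (x + y) = Γv x + Γv y := by
  simp [Γv, add_smul, Finset.sum_add_distrib]

theorem Γv_single (a : I) (t : F) : Γv (Pi.single a t : I → F) = t • γ a := by
  rw [Γv, Finset.sum_eq_single a (fun b _ h => by simp [h]) (by simp), Pi.single_eq_same]

theorem act_el_e {a b : I} (h : Ok a b) (t : F) (c : I) :
    act (el h t) (Pi.single c 1) = Pi.single c 1 + Pi.single a (if c = bar b then t else 0) +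
      Pi.single b (if c = bar a then -t else 0) := act_el_single h t c

theorem U_conj {a b : I} (h : Ok a b) (t : F) (c : I) :
    (U a b t : Module.End F (Sp F n)) * γ c *
      (((U a b t)⁻¹ : (Module.End F (Sp F n))ˣ) : Module.End F (Sp F n)) =
      Γv (act (el h t) (Pi.single c 1)) := by
  have hl := lev_ne_of_ok h
  rw [U_val hl, U_inv_val hl, act_el_e, Γv_add, Γv_add, Γv_single, Γv_single, Γv_single, one_smul]
  set P : Module.End F (Sp F n) := (if c = bar b then γ a else 0) - (if c = bar a then γ b else 0) with hP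
  have hcomm : (N a b * γ c : Module.End F (Sp F n)) = γ c * N a b + P := by
    have h1 : (γ b * γ c : Module.End F (Sp F n)) = (-(γ (F := F) c * γ b) + if c = bar b then 1 else 0 : Module.End F (Sp F n)) := by
      rw [← car (F := F) b c]; abel
    have h2 : (γ a * γ c : Module.End F (Sp F n)) = (-(γ (F := F) c * γ a) + if c = bar a then 1 else 0 : Module.End F (Sp F n)) := by
      rw [← car (F := F) a c]; abel
    show γ a * γ b * γ c = γ c * (γ a * γ b) + P
    rw [mul_assoc, h1, mul_add, mn, ← mul_assoc, h2, add_mul, nm, neg_add, neg_neg, hP,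
      mul_ite, mul_one, mul_zero, ite_mul, one_mul, zero_mul, mul_assoc]
    abel
  have hPN : P * N a b = 0 := by
    have e1 : γ a * N a b = (0 : Module.End F (Sp F n)) := by rw [N, ← mul_assoc, γ_sq, zero_mul]
    have e2 : γ b * N a b = (0 : Module.End F (Sp F n)) := by
      rw [N, ← mul_assoc, anti hl, nm, mul_assoc, γ_sq, mul_zero, neg_zero]
    rw [hP, sub_mul, ite_mul, ite_mul, e1, e2, zero_mul, ite_self, ite_self, sub_zero]
  have hNN : N a b * γ c * N a b = (0 : Module.End F (Sp F n)) := by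
    rw [hcomm, add_mul, mul_assoc, N_sq hl, mul_zero, hPN, add_zero]
  calc (1 + t • N a b) * γ c * (1 - t • N a b)
      = γ c + t • (N a b * γ c) - t • (γ c * N a b) - (t * t) • (N a b * γ c * N a b) := by
        simp only [add_mul, mul_sub, one_mul, mul_one, smul_mul_assoc, mul_smul_comm, smul_smul, smul_add]
        abel
    _ = γ c + t • P := by rw [hNN, smul_zero, sub_zero, hcomm, smul_add]; abel
    _ = _ := by
        rw [hP, smul_sub, smul_ite, smul_ite, smul_zero]
        split_ifs <;> module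

theorem U_rel {a b c : I} (hab : lev a ≠ lev b) (hac : lev a ≠ lev c) (hcb : lev c ≠ lev b) (t u : F) :
    ⁅(U a (bar c) t : (Module.End F (Sp F n))ˣ), U c b u⁆ = U a b (t * u) := by
  have h1 : lev a ≠ lev (bar c) := by rwa [lev_bar]
  have hA : N a (bar c) * N a (bar c) = (0 : Module.End F (Sp F n)) := N_sq h1
  have hB : N c b * N c b = (0 : Module.End F (Sp F n)) := N_sq hcb
  have hcbb : lev (bar c) ≠ lev b := by rwa [lev_bar]
  have x1 : γ (bar c) * γ a = (-(γ a * γ (bar c)) : Module.End F (Sp F n)) := anti h1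
  have x2 : γ c * γ a = (-(γ a * γ c) : Module.End F (Sp F n)) := anti hac
  have x3 : γ b * γ a = (-(γ a * γ b) : Module.End F (Sp F n)) := anti hab
  have x4 : γ b * γ c = (-(γ c * γ b) : Module.End F (Sp F n)) := anti hcb
  have x5 : γ b * γ (bar c) = (-(γ (bar c) * γ b) : Module.End F (Sp F n)) := anti hcbb
  have sa : ∀ x : Module.End F (Sp F n), γ a * (γ a * x) = 0 := fun x => by
    rw [← mul_assoc, γ_sq, zero_mul]
  have sb : ∀ x : Module.End F (Sp F n), x * γ b * γ b = 0 := fun x => by rw [mul_assoc, γ_sq, mul_zero]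
  have hK : γ c * γ b * γ a = (γ a * γ c * γ b : Module.End F (Sp F n)) := by
    rw [mul_assoc, x3, mn, ← mul_assoc, x2, nm, neg_neg]
  have y1 : ∀ z : Module.End F (Sp F n), γ (bar c) * (γ a * z) = -(γ a * (γ (bar c) * z)) := fun z => by
    rw [← mul_assoc, x1, nm, mul_assoc]
  have y2 : ∀ z : Module.End F (Sp F n), γ c * (γ a * z) = -(γ a * (γ c * z)) := fun z => by
    rw [← mul_assoc, x2, nm, mul_assoc]
  have y3 : ∀ z : Module.End F (Sp F n), γ b * (γ a * z) = -(γ a * (γ b * z)) := fun z => by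
    rw [← mul_assoc, x3, nm, mul_assoc]
  have y4 : ∀ z : Module.End F (Sp F n), γ b * (γ c * z) = -(γ c * (γ b * z)) := fun z => by
    rw [← mul_assoc, x4, nm, mul_assoc]
  have y5 : ∀ z : Module.End F (Sp F n), γ b * (γ (bar c) * z) = -(γ (bar c) * (γ b * z)) := fun z => by
    rw [← mul_assoc, x5, nm, mul_assoc]
  have hABA : N a (bar c) * N c b * N a (bar c) = (0 : Module.End F (Sp F n)) := by
    simp only [N, mul_assoc, y1, y2, y3, mn, sa, neg_zero, mul_zero]
  have hBAB : N c b * N a (bar c) * N c b = (0 : Module.End F (Sp F n)) := by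
    simp only [N, mul_assoc, y2, y3, y4, y5, mn, nm, neg_neg, γ_sq, neg_zero, mul_zero]
  have hcomm : N a (bar c) * N c b - N c b * N a (bar c) = (N a b : Module.End F (Sp F n)) := by
    simp only [N, mul_assoc, y2, y3, x5, mn, neg_neg, sub_neg_eq_add]
    rw [← mul_add, ← mul_assoc, ← mul_assoc, ← add_mul, car, if_pos (bar_bar c).symm, one_mul]
  refine Units.ext ?_
  rw [commutatorElement_def, Units.val_mul, Units.val_mul, Units.val_mul, U_val h1, U_val hcb,
    U_inv_val h1, U_inv_val hcb, U_val hab, ← hcomm, smul_sub]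
  set A : Module.End F (Sp F n) := t • N a (bar c) with hAdef
  set B : Module.End F (Sp F n) := u • N c b with hBdef
  have a2 : A * A = 0 := by rw [hAdef, smul_mul_smul_comm, hA, smul_zero]
  have b2 : B * B = 0 := by rw [hBdef, smul_mul_smul_comm, hB, smul_zero]
  have aba : A * B * A = 0 := by
    rw [hAdef, hBdef, smul_mul_smul_comm, smul_mul_smul_comm, hABA, smul_zero]
  have bab : B * A * B = 0 := by
    rw [hAdef, hBdef, smul_mul_smul_comm, smul_mul_smul_comm, hBAB, smul_zero]
  have e1 : (t * u) • (N a (bar c) * N c b) = A * B := by rw [hAdef, hBdef, smul_mul_smul_comm]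
  have e2 : (t * u) • (N c b * N a (bar c)) = B * A := by
    rw [hAdef, hBdef, smul_mul_smul_comm, mul_comm u t]
  rw [e1, e2]
  have step : (1 + A) * (1 + B) * (1 - A) = 1 + B + A * B - B * A := by
    simp only [add_mul, mul_add, mul_sub, one_mul, mul_one, a2, aba]
    abel
  rw [step]
  have ab2 : A * B * B = 0 := by rw [mul_assoc, b2, mul_zero]
  simp only [add_mul, sub_mul, mul_sub, one_mul, mul_one, b2, ab2, bab]
  abel

variable (F n) in
/-- The set of paired generators. -/
def gens : Set (OG F n × (Module.End F (Sp F n))ˣ) :=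
  {p | ∃ (a b : Fin n ⊕ Fin n) (h : Ok a b) (t : F), p = (el h t, U a b t)}

variable (F n) in
/-- The spin group. -/
noncomputable def G : Subgroup (OG F n × (Module.End F (Sp F n))ˣ) := Subgroup.closure (gens F n)

/-- The compatibility of the two components. -/
def Compat (p : OG F n × (Module.End F (Sp F n))ˣ) : Prop :=
  ∀ x : I → F, (p.2 : Module.End F (Sp F n)) * Γv x * ((p.2⁻¹ : (Module.End F (Sp F n))ˣ) : Module.End F _) =
    Γv (act p.1 x)

theorem act_sum (g : OG F n) (x : I → F) : act g x = ∑ a, x a • act g (Pi.single a 1) := by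
  conv_lhs => rw [pi_eq_sum_univ' x]
  simp only [act, Matrix.mulVec_sum, Matrix.mulVec_smul]

theorem Γv_sum (x : I → F) (v : I → I → F) : Γv (∑ a, x a • v a) = ∑ a, x a • Γv (v a) := by
  simp only [Γv, Finset.sum_apply, Pi.smul_apply, smul_eq_mul, Finset.sum_smul, Finset.smul_sum, smul_smul]
  exact Finset.sum_comm

theorem compat_mem {p : OG F n × (Module.End F (Sp F n))ˣ} (hp : p ∈ G F n) : Compat p := by
  refine Subgroup.closure_induction ?_ ?_ ?_ ?_ hp
  · rintro _ ⟨a, b, h, t, rfl⟩ x
    rw [act_sum, Γv_sum, show Γv x = ∑ c, x c • γ c from rfl, Finset.mul_sum, Finset.sum_mul]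
    refine Finset.sum_congr rfl fun c _ => ?_
    rw [mul_smul_comm, smul_mul_assoc, U_conj h]
  · intro x; simp [act_one]
  · intro p q _ _ hp hq x
    rw [Prod.snd_mul, Prod.fst_mul, _root_.mul_inv_rev, Units.val_mul, Units.val_mul, act_mul, ← hp, ← hq]
    simp only [mul_assoc]
  · intro p _ hp x
    have := hp (act p.1⁻¹ x)
    rw [← act_mul, mul_inv_cancel, act_one] at this
    rw [Prod.snd_inv, Prod.fst_inv, inv_inv, ← this]
    simp [mul_assoc]

theorem fst_ker_central :
    ((MonoidHom.fst _ _).comp (G F n).subtype).ker ≤ Subgroup.center (G F n) := by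
  rintro ⟨p, hp⟩ h1
  change p.1 = 1 at h1
  have hγ : ∀ c, Commute (p.2 : Module.End F (Sp F n)) (γ c) := fun c => by
    have := compat_mem hp (Pi.single c 1)
    rwa [h1, act_one, Γv_single, one_smul, Units.mul_inv_eq_iff_eq_mul] at this
  refine Subgroup.mem_center_iff.2 fun q => ?_
  obtain ⟨q, hq⟩ := q
  refine Subtype.ext ?_
  show q * p = p * q
  refine Subgroup.closure_induction (p := fun q _ => q * p = p * q) ?_ (by simp) ?_ ?_ hq
  · rintro _ ⟨a, b, h, t, rfl⟩
    refine Prod.ext (by simp [h1]) (Units.ext ?_)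
    simp only [Prod.snd_mul, Units.val_mul, U_val (lev_ne_of_ok h)]
    exact ((Commute.one_right _).add_right (((hγ a).mul_right (hγ b)).smul_right t)).symm.eq
  · intro x y _ _ hx hy; exact (Commute.mul_left (a := x) (b := y) hx hy).eq
  · intro x _ hx; exact (Commute.inv_left (a := x) hx).eq

instance finite_end : Finite (Module.End F (Sp F n)) := by
  have := Module.Finite.of_basis (Pi.basisFun F (Fin n)).ExteriorAlgebra
  have : Finite (Sp F n) := Module.finite_of_finite F
  exact Finite.of_injective (fun f => (f : Sp F n → Sp F n)) DFunLike.coe_injective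

instance finite_G : Finite (G F n) := inferInstance

variable (F) in
/-- The spin extension. -/
noncomputable def ext (h4 : 3 ≤ n) (hg : (n = 4 → Nat.card F ≠ 2) ∧ (n = 3 → (2 : F) ≠ 0)) : Ext F n (G F n) where
  σ := (MonoidHom.fst _ _).comp (G F n).subtype
  central := fst_ker_central
  el_mem a b h t := ⟨⟨(el h t, U a b t), Subgroup.subset_closure ⟨a, b, h, t, rfl⟩⟩, rfl⟩
  three := h4
  good := Or.inl hg

variable (h4 : 3 ≤ n) (hg : (n = 4 → Nat.card F ≠ 2) ∧ (n = 3 → (2 : F) ≠ 0))

/-- A generator of the spin group. -/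
noncomputable def gel {a b : Fin n ⊕ Fin n} (h : Ok a b) (t : F) : G F n :=
  ⟨(el h t, U a b t), Subgroup.subset_closure ⟨a, b, h, t, rfl⟩⟩

theorem gel_rel {a b c : I} (hab : lev a ≠ lev b) (hac : lev a ≠ lev c) (hcb : lev c ≠ lev b) (t u : F) :
    ⁅gel (ok_of_lev (show lev a ≠ lev (bar c) by rwa [lev_bar])) t, gel (ok_of_lev hcb) u⁆ =
      gel (ok_of_lev hab) (t * u) := by
  refine Subtype.ext (Prod.ext ?_ ?_)
  · simp only [gel, commutatorElement_def, Subgroup.coe_mul, Subgroup.coe_inv, Prod.fst_mul, Prod.fst_inv]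
    exact CurtisTitsD.el_rel hab hac hcb _ _ _ t u
  · simp only [gel, commutatorElement_def, Subgroup.coe_mul, Subgroup.coe_inv, Prod.snd_mul, Prod.snd_inv]
    exact U_rel hab hac hcb t u

theorem X_val {a b : I} (h : lev a ≠ lev b) (t : F) :
    X (ext F h4 hg) a b t = gel (ok_of_lev h) t := by
  obtain ⟨c, hca, hcb⟩ := exists_third (ext F h4 hg) a b
  rw [X_eq_br _ h hca hcb]
  conv_rhs => rw [← mul_one t, ← gel_rel h hca.symm hcb]
  exact br_indep (ext F h4 hg).central (σ_lft _ _ _) (σ_lft _ _ _)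

theorem perfect (h4 : 3 ≤ n) : commutator (G F n) = ⊤ := by
  refine top_le_iff.1 ?_
  rintro ⟨p, hp⟩ -
  refine Subgroup.closure_induction (p := fun q hq => (⟨q, hq⟩ : G F n) ∈ commutator (G F n))
    ?_ (one_mem _) (fun x y _ _ hx hy => mul_mem hx hy) (fun x _ hx => inv_mem hx) hp
  rintro _ ⟨a, b, h, t, rfl⟩
  obtain ⟨i, hi⟩ := SLMult.exists_index ({levF a, levF b} : Finset (Fin n)) Finset.card_le_two
    (by rw [Fintype.card_fin]; omega)
  simp only [Finset.mem_insert, Finset.mem_singleton, not_or] at hi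
  have e := gel_rel (c := Sum.inl i) (lev_ne_of_ok h) (levF_ne.1 (Ne.symm hi.1)) (levF_ne.1 hi.2) t 1
  rw [mul_one] at e
  show gel h t ∈ _
  rw [← e]
  exact Subgroup.commutator_mem_commutator (Subgroup.mem_top _) (Subgroup.mem_top _)

theorem wv {a b : I} (h : lev a ≠ lev b) (t : F) (v : Sp F n) :
    ((w (ext F h4 hg) a b t).1.2 : Module.End F (Sp F n)) v =
      (1 + t • N a b : Module.End F (Sp F n))
        ((1 + t⁻¹ • N (bar a) (bar b) : Module.End F (Sp F n)) ((1 + t • N a b : Module.End F (Sp F n)) v)) := by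
  have h' : lev (bar a) ≠ lev (bar b) := by rwa [lev_bar, lev_bar]
  simp only [w, X_val h4 hg h, X_val h4 hg h', gel, Subgroup.coe_mul, Prod.snd_mul, Units.val_mul,
    U_val h, U_val h', Module.End.mul_apply]

theorem zz_ne_one (h2 : (2 : F) ≠ 0) : zz (ext F h4 hg) ≠ 1 := by
  intro hz
  set E := ext F h4 hg
  set P : I := Sum.inl (iP E)
  set Q : I := Sum.inl (iQ E)
  have hPQ : lev P ≠ lev Q := lev_pq E
  have hPQ' : lev P ≠ lev (bar Q) := by rwa [lev_bar]
  have hb : ∀ i : Fin n, γ (Sum.inr i) (1 : Sp F n) = 0 := fun i => by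
    rw [γ_inr]; exact CliffordAlgebra.contractLeft_one _ _
  have happ : ∀ x y : Fin n ⊕ Fin n, ∀ v, N x y v = γ x (γ y v : Sp F n) := fun _ _ _ => rfl
  have hbb : ∀ (x : I) (v : Sp F n), γ x (γ x v) = 0 := fun x v => by
    rw [← Module.End.mul_apply, γ_sq]; rfl
  have hsw : ∀ {x y : I}, lev x ≠ lev y → ∀ v : Sp F n, γ y (γ x v) = - γ x (γ y v) := fun h v => by
    rw [← Module.End.mul_apply, anti h]; rfl
  have hcr : ∀ (x : I) (v : Sp F n), γ (bar x) v = 0 → γ (bar x) (γ x v) = v := fun x v h0 => by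
    have := LinearMap.congr_fun (car (F := F) (bar x) x) v
    rw [if_pos (bar_bar x).symm] at this
    simpa [h0] using this
  have bP : γ (bar P) (1 : Sp F n) = 0 := hb _
  have bQ : γ (bar Q) (1 : Sp F n) = 0 := hb _
  set D : Sp F n := γ P (γ Q 1) with hD
  have q2 : γ (bar Q) D = - γ P 1 := by
    rw [hD, hsw hPQ', hcr _ _ bQ]
  have n2 : N (bar P) (bar Q) D = -(1 : Sp F n) := by
    rw [happ, q2, map_neg, hcr _ _ bP]
  have n0 : N (bar P) (bar Q) (1 : Sp F n) = 0 := by rw [happ, bQ, map_zero]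
  have n1 : N P Q (1 : Sp F n) = D := rfl
  have n3 : N P Q D = 0 := by rw [happ, hD, hsw hPQ, map_neg, hbb, neg_zero]
  have w1 : ((w E P Q (-1)).1.2 : Module.End F (Sp F n)) (1 : Sp F n) = -D := by
    rw [wv h4 hg hPQ]
    simp only [LinearMap.add_apply, LinearMap.smul_apply, Module.End.one_apply, map_add, map_neg, map_smul,
      n0, n1, n2, n3, inv_neg, inv_one, neg_one_smul, neg_neg, neg_zero, smul_zero, add_zero, zero_add]
    abel
  have w2 : ((w E P Q (-1)).1.2 : Module.End F (Sp F n)) D = 1 := by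
    rw [wv h4 hg hPQ]
    simp only [LinearMap.add_apply, LinearMap.smul_apply, Module.End.one_apply, map_add, map_neg, map_smul,
      n0, n1, n2, n3, inv_neg, inv_one, neg_one_smul, neg_neg, neg_zero, smul_zero, add_zero, zero_add]
    abel
  have w3 : ((w E P (bar Q) (-1)).1.2 : Module.End F (Sp F n)) (1 : Sp F n) = 1 := by
    have e1 : N P (bar Q) (1 : Sp F n) = 0 := by rw [happ, bQ, map_zero]
    have e2 : N (bar P) Q (1 : Sp F n) = 0 := by
      rw [happ, hsw (x := Q) (y := bar P) (by rw [lev_bar]; exact hPQ.symm), bP, map_zero, neg_zero]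
    rw [wv h4 hg hPQ']
    simp [LinearMap.add_apply, LinearMap.smul_apply, e1, e2]
  have key : ((zz E).1.2 : Module.End F (Sp F n)) (1 : Sp F n) = -1 := by
    show ((DMult.h E P (bar Q) (-1) * DMult.h E P Q (-1)).1.2 : Module.End F (Sp F n)) 1 = -1
    rw [DMult.h, DMult.h]
    simp only [Subgroup.coe_mul, Prod.snd_mul, Units.val_mul, Module.End.mul_apply]
    rw [w1, map_neg, w2, map_neg, map_neg, w3, w3]
  rw [hz] at key
  have h3 : ((2 : F) • (1 : Sp F n)) = 0 := by
    rw [two_smul]
    nth_rewrite 2 [show (1 : Sp F n) = -1 from key]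
    exact add_neg_cancel _
  exact h2 ((smul_eq_zero.1 h3).resolve_right one_ne_zero)

end Spin

end Cfsg.Agent.DMult
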