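import Cfsg.Agent.DMult.Monomial

/-!
The lifted torus: it lies in an explicit abelian group meeting the kernel in at most two elements.
-/

set_option autoImplicit false
set_option linter.unusedSectionVars false
set_option linter.unusedSimpArgs false

open Matrix
open scoped commutatorElement MatrixGroups

namespace Cfsg.Agent.DMult

open Chev.Ortho CurtisTitsD
open SLMult (tx)

universe u

variable {F : Type u} [Field F] [Fintype F] {n : ℕ} {Γ : Type u} [Group Γ] [Finite Γ]

local notation "I" => Fin n ⊕ Fin n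

variable (E : Ext F n Γ)

/-- Tuples of determinant one. -/
def Tor (F : Type u) [Field F] (n : ℕ) : Subgroup (Fin n → Fˣ) where
  carrier := {u | ∏ i, u i = 1}
  one_mem' := by simp
  mul_mem' := fun {a b} (ha : ∏ i, a i = 1) (hb : ∏ i, b i = 1) =>
    show ∏ i, (a * b) i = 1 by simp [Finset.prod_mul_distrib, ha, hb]
  inv_mem' := fun {a} (ha : ∏ i, a i = 1) => show ∏ i, a⁻¹ i = 1 by simp [Finset.prod_inv_distrib, ha]

/-- Diagonal elements of determinant one. -/
def dg : Tor F n →* SpecialLinearGroup (Fin n) F where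
  toFun u := ⟨diagonal fun i => ((u : Fin n → Fˣ) i : F), by
    rw [Matrix.det_diagonal, ← Units.coe_prod, show ∏ i, (u : Fin n → Fˣ) i = 1 from u.2, Units.val_one]⟩
  map_one' := Subtype.ext (by simp)
  map_mul' u v := Subtype.ext (by
    show diagonal _ = diagonal _ * diagonal _
    rw [Matrix.diagonal_mul_diagonal]; simp)

/-- The tuple of a coroot. -/
def crt {i j : Fin n} (_h : i ≠ j) (t : Fˣ) : Tor F n :=
  ⟨Pi.mulSingle i t * Pi.mulSingle j t⁻¹,
    show ∏ k, _ = (1 : Fˣ) by simp [Finset.prod_mul_distrib, Finset.prod_pi_mulSingle']⟩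

theorem dg_crt {i j : Fin n} (h : i ≠ j) (t : Fˣ) : dg (crt h t) = hS i j (t : F) := by
  refine Subtype.ext ?_
  rw [hS_coe h t.ne_zero]
  show diagonal _ = _
  congr 1
  funext r
  simp only [crt, Pi.mul_apply, Pi.mulSingle_apply, SLMult.dd]
  split_ifs with h1 h2 <;> first | (exact absurd (h1.symm.trans h2) h) | simp

/-- The standard section. -/
theorem isSec_inl : IsSec (fun i : Fin n => (Sum.inl i : I)) := fun _ => rfl

/-- The scalars of a diagonal element on signed indices. -/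
def dgc (u : Fin n → Fˣ) : I → F := Sum.elim (fun i => (u i : F)) fun i => ((u i)⁻¹ : Fˣ)

theorem isMonO_dg (u : Tor F n) : IsMonO (E.σ (f E isSec_inl (dg u))) 1 (dgc (u : Fin n → Fˣ)) := by
  refine ⟨fun i => rfl, fun i => ?_, fun i => ?_⟩
  · cases i <;> simp [dgc, bar]
  · cases i with
    | inl j =>
      have := (σ_f_nat E isSec_inl (dg u) (Pi.single j 1)).1
      rw [emb_single isSec_inl] at this
      rw [this, show (dg u).1 *ᵥ Pi.single j 1 = Pi.single j ((u : Fin n → Fˣ) j : F) by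
        show diagonal _ *ᵥ _ = _
        rw [Matrix.diagonal_mulVec_single, mul_one], emb_single isSec_inl]
      rfl
    | inr j =>
      have := (σ_f_nat E isSec_inl (dg u) (Pi.single j (((u : Fin n → Fˣ) j)⁻¹ : Fˣ))).2
      rw [emb_single (isSec_bar isSec_inl), show (dg u).1ᵀ *ᵥ
        Pi.single j ((((u : Fin n → Fˣ) j)⁻¹ : Fˣ) : F) = Pi.single j 1 by
        show (diagonal _)ᵀ *ᵥ _ = _
        rw [Matrix.diagonal_transpose, Matrix.diagonal_mulVec_single]
        simp, emb_single (isSec_bar isSec_inl)] at this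
      exact this

theorem isMonO_h {a b : I} (hab : lev a ≠ lev b) {t : F} (ht : t ≠ 0) :
    IsMonO (E.σ (h E a b t)) 1
      (fun i => if i = a ∨ i = b then t else if i = bar a ∨ i = bar b then t⁻¹ else 1) := by
  have h1 := (isMonO_w E hab ht).mul (isMonO_w E hab (neg_ne_zero.2 one_ne_zero : (-1 : F) ≠ 0))
  rw [wPerm_sq hab] at h1
  rw [h, map_mul]
  convert h1 using 1
  funext i
  have g1 : bar b ≠ a := fun e => hab (by rw [← e, lev_bar])
  have g2 : bar a ≠ b := fun e => hab (by rw [← e, lev_bar])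
  have g3 : a ≠ b := fun e => hab (by rw [e])
  have g4 : bar a ≠ bar b := fun e => g3 (bar_inj e)
  rw [wPerm_apply hab]
  by_cases i1 : i = bar b
  · subst i1; simp [g1, g1.symm, g2, g2.symm, g3, g3.symm, g4, g4.symm, bar_ne, (bar_ne _).symm]
  by_cases i2 : i = a
  · subst i2; simp [g1, g1.symm, g2, g2.symm, g3, g3.symm, g4, g4.symm, bar_ne, (bar_ne _).symm]
  by_cases i3 : i = bar a
  · subst i3; simp [g1, g1.symm, g2, g2.symm, g3, g3.symm, g4, g4.symm, bar_ne, (bar_ne _).symm]
  by_cases i4 : i = b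
  · subst i4; simp [g1, g1.symm, g2, g2.symm, g3, g3.symm, g4, g4.symm, bar_ne, (bar_ne _).symm]
  simp [i1, i2, i3, i4]

/-- The coroot relation. -/
theorem h_rel {a b c : I} (hab : lev a ≠ lev b) (hac : lev a ≠ lev c) (hcb : lev c ≠ lev b) {t : F}
    (ht : t ≠ 0) : h E a (bar c) t * h E c b t = h E a b t := by
  obtain ⟨s, hs, sa, sb, sc, -⟩ := exists_sec a (bar b) c c
  have hb : bar (s (levF b)) = b := by
    have := sb (by rw [lev_bar]; exact hab.symm)
    rw [levF_bar] at this; rw [this, bar_bar]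
  have hc := sc hac.symm (by rwa [lev_bar])
  have n1 := levF_ne.2 hac
  have n2 := levF_ne.2 hcb
  have n3 := levF_ne.2 hab
  rw [h_eq_f E hs n1 sa (by rw [hc]), h_eq_f E hs n2 hc hb, h_eq_f E hs n3 sa hb, ← map_mul]
  congr 1
  refine Subtype.ext ?_
  rw [Matrix.SpecialLinearGroup.coe_mul, hS_coe n1 ht, hS_coe n2 ht, hS_coe n3 ht,
    Matrix.diagonal_mul_diagonal]
  congr 1
  funext r
  simp only [SLMult.dd]
  split_ifs <;> simp_all

/-- The last index but one. -/
def iP : Fin n := ⟨n - 2, by have := E.three; omega⟩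

/-- The last index. -/
def iQ : Fin n := ⟨n - 1, by have := E.three; omega⟩

theorem iP_ne : iP E ≠ iQ E := fun e => by
  have h := congrArg Fin.val e
  have h4 := E.three
  simp only [iP, iQ] at h
  omega

theorem lev_pq : lev (Sum.inl (iP E) : I) ≠ lev (Sum.inl (iQ E) : I) := fun e => iP_ne E (Fin.ext e)

theorem lev_inl {i j : Fin n} (h : i ≠ j) : lev (Sum.inl i : I) ≠ lev (Sum.inl j : I) := fun e => h (Fin.ext e)

/-- The extra coroot. -/
noncomputable def hPQ : Fˣ →* Γ where
  toFun c := h E (Sum.inl (iP E)) (Sum.inl (iQ E)) (c : F)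
  map_one' := h_one E (lev_pq E)
  map_mul' c d := by rw [Units.val_mul, h_mul E (lev_pq E) c.ne_zero d.ne_zero]

theorem dg_comm_hPQ (u : Tor F n) (c : Fˣ) : Commute (f E isSec_inl (dg u)) (hPQ E c) :=
  h_comm E ⟨_, isMonO_dg E u⟩ (lev_pq E) c.ne_zero

/-- The parametrised torus. -/
noncomputable def tor : (Tor F n) × Fˣ →* Γ :=
  ((f E isSec_inl).comp dg).noncommCoprod (hPQ E) fun u c => dg_comm_hPQ E u c

theorem tor_apply (u : Tor F n) (c : Fˣ) : tor E (u, c) = f E isSec_inl (dg u) * hPQ E c := rfl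

/-- The lifted torus. -/
noncomputable def That : Subgroup Γ :=
  Subgroup.closure {x | ∃ a b t, lev a ≠ lev b ∧ t ≠ 0 ∧ h E a b t = x}

theorem h_mem_That {a b : I} (hab : lev a ≠ lev b) {t : F} (ht : t ≠ 0) : h E a b t ∈ That E :=
  Subgroup.subset_closure ⟨a, b, t, hab, ht, rfl⟩

theorem That_isMon {x : Γ} (hx : x ∈ That E) : IsMon E x 1 := by
  refine Subgroup.closure_induction ?_ ?_ ?_ ?_ hx
  · rintro _ ⟨a, b, t, hab, ht, rfl⟩; exact h_mon E hab ht
  · exact ⟨_, by rw [map_one]; exact isMonO_one⟩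
  · intro x y _ _ hx hy
    simpa using hx.mul E hy
  · intro x _ hx
    simpa using hx.inv E

theorem That_conj {g x : Γ} {τ : Equiv.Perm I} (hg : IsMon E g τ) (hx : x ∈ That E) :
    g * x * g⁻¹ ∈ That E := by
  refine Subgroup.closure_induction ?_ ?_ ?_ ?_ hx
  · rintro _ ⟨a, b, t, hab, ht, rfl⟩
    rw [h_conj E hg hab ht]
    obtain ⟨c, hc⟩ := hg
    exact h_mem_That E (lev_ne_of_ok (hc.ok (ok_of_lev hab))) ht
  · simp [one_mem]
  · intro x y _ _ hx hy
    rw [← conj_mul]; exact mul_mem hx hy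
  · intro x _ hx
    rw [← conj_inv]; exact inv_mem hx

theorem That_le : That E ≤ (tor E).range := by
  rw [That, Subgroup.closure_le]
  rintro _ ⟨a, b, t, hab, ht, rfl⟩
  obtain ⟨t, rfl⟩ : ∃ t' : Fˣ, (t' : F) = t := ⟨Units.mk0 t ht, rfl⟩
  clear ht
  have hf : ∀ i j : Fin n, i ≠ j → ∀ t : Fˣ, h E (Sum.inl i) (Sum.inr j) (t : F) ∈ (tor E).range :=
    fun i j hij t => ⟨(crt hij t, 1), by
      rw [tor_apply, map_one, mul_one, dg_crt hij, h_eq_f E isSec_inl hij (a := Sum.inl i) (b := Sum.inr j) rfl rfl]⟩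
  have hpq : ∀ t : Fˣ, h E (Sum.inl (iP E)) (Sum.inl (iQ E)) (t : F) ∈ (tor E).range :=
    fun t => ⟨(1, t), by rw [tor_apply, map_one, map_one, one_mul]; rfl⟩
  have step : ∀ i j k : Fin n, i ≠ j → k ≠ j → ∀ t : Fˣ,
      h E (Sum.inl k) (Sum.inl j) (t : F) ∈ (tor E).range →
        h E (Sum.inl i) (Sum.inl j) (t : F) ∈ (tor E).range := by
    intro i j k hij hkj t hk
    by_cases hik : i = k
    · subst hik; exact hk
    rw [← h_rel E (lev_inl hij) (lev_inl hik) (lev_inl hkj) t.ne_zero]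
    exact mul_mem (hf i k hik t) hk
  have sw : ∀ i j : Fin n, i ≠ j → ∀ t : Fˣ, h E (Sum.inl j) (Sum.inl i) (t : F) ∈ (tor E).range →
      h E (Sum.inl i) (Sum.inl j) (t : F) ∈ (tor E).range := fun i j hij t hh => by
    rwa [← h_swap E (lev_inl hij.symm) t.ne_zero] at hh
  have hne := iP_ne E
  have hll : ∀ i j : Fin n, i ≠ j → ∀ t : Fˣ, h E (Sum.inl i) (Sum.inl j) (t : F) ∈ (tor E).range := by
    intro i j hij t
    have hjp : ∀ j, j ≠ iP E → h E (Sum.inl (iP E)) (Sum.inl j) (t : F) ∈ (tor E).range := fun j hj =>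
      sw _ _ hj.symm t (step j (iP E) (iQ E) hj hne.symm t (sw _ _ hne.symm t (hpq t)))
    by_cases hj : j = iP E
    · subst hj; exact step i _ (iQ E) hij hne.symm t (sw _ _ hne.symm t (hpq t))
    · exact step i j (iP E) hij (Ne.symm hj) t (hjp j hj)
  rcases a with i | i <;> rcases b with j | j
  · exact hll i j (fun e => hab (by subst e; rfl)) t
  · exact hf i j (fun e => hab (by subst e; rfl)) t
  · rw [← h_swap E hab t.ne_zero]
    exact hf j i (fun e => hab (by subst e; rfl)) t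
  · have hij : i ≠ j := fun e => hab (by subst e; rfl)
    rw [show h E (Sum.inr i) (Sum.inr j) (t : F) = h E (bar (Sum.inl i)) (bar (Sum.inl j)) (t : F) from rfl,
      h_bar E (lev_inl hij) t.ne_zero, ← Units.val_inv_eq_inv_val]
    exact hll i j hij t⁻¹

/-- The possible nontrivial kernel element. -/
noncomputable def zz : Γ :=
  h E (Sum.inl (iP E)) (Sum.inr (iQ E)) (-1 : F) * h E (Sum.inl (iP E)) (Sum.inl (iQ E)) (-1 : F)

theorem zz_eq : zz E = tor E (crt (iP_ne E) (-1), -1) := by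
  rw [tor_apply, zz, dg_crt, h_eq_f E isSec_inl (iP_ne E) (a := Sum.inl (iP E)) (b := Sum.inr (iQ E)) rfl rfl]
  rfl

theorem σ_tor_inl (u : Tor F n) (c : Fˣ) (i : Fin n) :
    act (E.σ (tor E (u, c))) (Pi.single (Sum.inl i) 1) = Pi.single (Sum.inl i)
      (((u : Fin n → Fˣ) i : F) * if i = iP E ∨ i = iQ E then (c : F) else 1) := by
  have := ((isMonO_dg E u).mul (isMonO_h E (lev_pq E) c.ne_zero)).2.2 (Sum.inl i)
  rw [← map_mul] at this
  rw [tor_apply, show hPQ E c = h E (Sum.inl (iP E)) (Sum.inl (iQ E)) (c : F) from rfl, this]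
  congr 1
  simp [dgc, bar, mul_comm]

theorem tor_isMon (x : (Tor F n) × Fˣ) : IsMon E (tor E x) 1 := by
  obtain ⟨u, c⟩ := x
  simpa [tor_apply, hPQ] using IsMon.mul E ⟨_, isMonO_dg E u⟩ (h_mon E (lev_pq E) c.ne_zero)

theorem σ_tor_eq_one (u : Tor F n) (c : Fˣ)
    (hu : ∀ i, (u : Fin n → Fˣ) i * (if i = iP E ∨ i = iQ E then c else 1) = 1) :
    E.σ (tor E (u, c)) = 1 := by
  obtain ⟨d, hd⟩ := tor_isMon E (u, c)
  have hl : ∀ i, d (Sum.inl i) = 1 := fun i => by
    have := congrFun ((hd.2.2 (Sum.inl i)).symm.trans (σ_tor_inl E u c i)) (Sum.inl i)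
    simp only [Equiv.Perm.one_apply, Pi.single_eq_same] at this
    rw [this, show (if i = iP E ∨ i = iQ E then (c : F) else 1) =
      ((if i = iP E ∨ i = iQ E then c else 1 : Fˣ) : F) by split_ifs <;> simp, ← Units.val_mul, hu i,
      Units.val_one]
  have hr : ∀ i, d i = 1 := by
    rintro (i | i)
    · exact hl i
    · have := hd.2.1 (Sum.inl i)
      rwa [hl, one_mul] at this
  refine ext_single fun i => ?_
  rw [hd.2.2, hr, act_one]; rfl

theorem σ_zz : E.σ (zz E) = 1 := by
  rw [zz_eq]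
  refine σ_tor_eq_one E _ _ fun i => ?_
  have hne := iP_ne E
  by_cases h1 : i = iP E
  · subst h1; simp [crt, hne]
  by_cases h2 : i = iQ E
  · subst h2; simp [crt, hne.symm]
  simp [crt, h1, h2]

theorem zz_mul_self : zz E * zz E = 1 := by
  rw [zz_eq, ← map_mul, show ((crt (iP_ne E) (-1), -1) : Tor F n × Fˣ) * (crt (iP_ne E) (-1), -1) = 1
    from Prod.ext (Subtype.ext (funext fun i => by
      simp only [crt, Prod.mk_mul_mk, Prod.fst_one, Subgroup.coe_mul, Subgroup.coe_one, Pi.mul_apply,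
        Pi.one_apply, Pi.mulSingle_apply]
      split_ifs <;> simp)) (neg_one_mul _ |>.trans (neg_neg 1)), map_one]

theorem zz_eq_one (h2 : (2 : F) = 0) : zz E = 1 := by
  have e : (-1 : F) = 1 := by linear_combination -h2
  rw [zz, e, h_one E (lev_pq E), mul_one]
  exact h_one E (by simpa [lev, bar] using lev_pq E)

/-- The lifted torus meets the kernel in at most two elements. -/
theorem That_ker {x : Γ} (hx : x ∈ That E) (h1 : E.σ x = 1) : x = 1 ∨ x = zz E := by
  obtain ⟨⟨u, c⟩, rfl⟩ := That_le E hx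
  have hu : ∀ i, (u : Fin n → Fˣ) i * (if i = iP E ∨ i = iQ E then c else 1) = 1 := fun i => by
    have := congrFun (σ_tor_inl E u c i) (Sum.inl i)
    rw [h1, act_one, Pi.single_eq_same, Pi.single_eq_same] at this
    refine Units.ext ?_
    rw [Units.val_mul, Units.val_one]
    split_ifs at this ⊢ <;> simpa using this.symm
  have hne := iP_ne E
  have ho : ∀ i, ¬(i = iP E ∨ i = iQ E) → (u : Fin n → Fˣ) i = 1 := fun i hi => by
    simpa [hi] using hu i
  have hp : (u : Fin n → Fˣ) (iP E) = c⁻¹ := eq_inv_of_mul_eq_one_left (by simpa using hu (iP E))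
  have hq : (u : Fin n → Fˣ) (iQ E) = c⁻¹ := eq_inv_of_mul_eq_one_left (by simpa using hu (iQ E))
  have hprod : ∏ i, (u : Fin n → Fˣ) i = 1 := u.2
  rw [Finset.prod_eq_mul (iP E) (iQ E) hne (fun i _ hi => ho i (by tauto)) (by simp) (by simp), hp, hq,
    ← _root_.mul_inv, inv_eq_one] at hprod
  rcases mul_self_eq_one_iff.1 (show (c : F) * c = 1 by rw [← Units.val_mul, hprod, Units.val_one])
    with e | e
  · left
    obtain rfl : c = 1 := Units.ext e
    have : u = 1 := Subtype.ext (funext fun i => by simpa using hu i)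
    rw [this]; exact map_one _
  · right
    obtain rfl : c = -1 := Units.ext (by rw [e]; rfl)
    rw [zz_eq]
    congr 2
    refine Subtype.ext (funext fun i => ?_)
    by_cases h1 : i = iP E
    · subst h1; rw [hp]; simp [crt, hne]
    by_cases h2 : i = iQ E
    · subst h2; rw [hq]; simp [crt, hne.symm]
    rw [ho i (by tauto)]; simp [crt, h1, h2]

end Cfsg.Agent.DMult
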