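import Cfsg.Agent.DMult.Torus

/-!
The lifted Weyl group: an element of the group generated by the lifted Weyl elements that induces the
trivial permutation lies in the lifted torus.
-/

set_option autoImplicit false
set_option linter.unusedSectionVars false
set_option linter.unusedSimpArgs false

open Matrix
open scoped commutatorElement MatrixGroups

namespace Cfsg.Agent.DMult

open Chev.Ortho CurtisTitsD

universe u

variable {F : Type u} [Field F] [Fintype F] {n : ℕ} {Γ : Type u} [Group Γ] [Finite Γ]

local notation "I" => Fin n ⊕ Fin n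

variable (E : Ext F n Γ)

/-- The permutation of a monomial element. -/
noncomputable def perm : monGroup E →* Equiv.Perm (Fin n ⊕ Fin n) :=
  MonoidHom.mk' (fun g => g.2.choose) fun g g' => by
    obtain ⟨c, hc⟩ := (g * g').2.choose_spec
    obtain ⟨c', hc'⟩ := g.2.choose_spec.mul E g'.2.choose_spec
    exact hc.perm_unique hc'

theorem isMon_perm (g : monGroup E) : IsMon E (g : Γ) (perm E g) := g.2.choose_spec

theorem perm_eq {g : monGroup E} {τ : Equiv.Perm I} (h : IsMon E (g : Γ) τ) : perm E g = τ := by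
  obtain ⟨c, hc⟩ := isMon_perm E g
  obtain ⟨c', hc'⟩ := h
  exact hc.perm_unique hc'

theorem That_le_monGroup : That E ≤ monGroup E := fun _ hx => (That_isMon E hx).mem E

instance That_normal : ((That E).subgroupOf (monGroup E)).Normal := ⟨fun x hx g => by
  rw [Subgroup.mem_subgroupOf, Subgroup.coe_mul, Subgroup.coe_mul, Subgroup.coe_inv]
  exact That_conj E (isMon_perm E g) (Subgroup.mem_subgroupOf.1 hx)⟩

/-- The Weyl quotient. -/
abbrev WQ : Type u := monGroup E ⧸ (That E).subgroupOf (monGroup E)

/-- The permutation on the Weyl quotient. -/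
noncomputable def qperm : WQ E →* Equiv.Perm (Fin n ⊕ Fin n) :=
  QuotientGroup.lift _ (perm E) fun x hx => perm_eq E (That_isMon E (Subgroup.mem_subgroupOf.1 hx))

theorem qperm_bar (q : WQ E) (x : I) : qperm E q (bar x) = bar (qperm E q x) := by
  obtain ⟨g, rfl⟩ := QuotientGroup.mk_surjective q
  obtain ⟨c, hc⟩ := isMon_perm E g
  exact hc.1 x

open scoped _root_.Classical in
/-- A reflection in the Weyl quotient. -/
noncomputable def W (a b : Fin n ⊕ Fin n) : WQ E :=
  if h : lev a ≠ lev b then
    QuotientGroup.mk ⟨w E a b 1, (w_mon E h one_ne_zero).mem E⟩ else 1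

theorem W_eq {a b : I} (h : lev a ≠ lev b) {t : F} (ht : t ≠ 0) (g : monGroup E)
    (hg : (g : Γ) = w E a b t) : (QuotientGroup.mk g : WQ E) = W E a b := by
  rw [W, dif_pos h, QuotientGroup.eq, Subgroup.mem_subgroupOf, Subgroup.coe_mul, Subgroup.coe_inv, hg]
  have e : (w E a b t)⁻¹ * w E a b 1 = DMult.h E a b (-t) * (DMult.h E a b (-1))⁻¹ := by
    rw [DMult.h, DMult.h, _root_.mul_inv_rev, w_inv E h ht, ← w_inv E h one_ne_zero, inv_inv]
    group
  rw [e]
  exact mul_mem (h_mem_That E h (neg_ne_zero.2 ht))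
    (inv_mem (h_mem_That E h (neg_ne_zero.2 one_ne_zero)))

theorem qperm_mk (g : monGroup E) : qperm E (QuotientGroup.mk g) = perm E g := rfl

theorem qperm_W {a b : I} (h : lev a ≠ lev b) : qperm E (W E a b) = wPerm a b := by
  rw [W, dif_pos h, qperm_mk]
  exact perm_eq E (w_mon E h one_ne_zero)

theorem W_symm {a b : I} (h : lev a ≠ lev b) : W E b a = W E a b := by
  rw [W, dif_pos h.symm]
  exact W_eq E h (neg_ne_zero.2 one_ne_zero) _ (w_swap E h 1)

theorem W_bar {a b : I} (h : lev a ≠ lev b) : W E (bar a) (bar b) = W E a b := by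
  rw [W, dif_pos (show lev (bar a) ≠ lev (bar b) by rwa [lev_bar, lev_bar])]
  exact W_eq E h (inv_ne_zero one_ne_zero) _ (w_bar E h one_ne_zero)

theorem W_conj (q : WQ E) {a b : I} (h : lev a ≠ lev b) :
    q * W E a b = W E (qperm E q a) (qperm E q b) * q := by
  obtain ⟨g, rfl⟩ := QuotientGroup.mk_surjective q
  obtain ⟨c, hc⟩ := isMon_perm E g
  have h' : lev (perm E g a) ≠ lev (perm E g b) := lev_ne_of_ok (hc.ok (ok_of_lev h))
  show _ = W E (perm E g a) (perm E g b) * _
  rw [← mul_inv_eq_iff_eq_mul, W, dif_pos h, ← QuotientGroup.mk_inv, ← QuotientGroup.mk_mul,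
    ← QuotientGroup.mk_mul]
  exact W_eq E h' (mul_ne_zero (mul_ne_zero (hc.ne_zero a) (hc.ne_zero b)) one_ne_zero) _
    (w_conj E hc h 1)

theorem wPerm_left {a b : I} (h : lev a ≠ lev b) : wPerm a b a = bar b := by
  have : a ≠ bar b := fun e => h (by rw [e, lev_bar])
  rw [wPerm_apply h, if_neg this, if_pos rfl]

theorem wPerm_left_bar {a b : I} (h : lev a ≠ lev b) : wPerm a b (bar b) = a := by
  rw [wPerm_apply h, if_pos rfl]

theorem wPerm_fix {a b x : I} (h : lev a ≠ lev b) (ha : lev x ≠ lev a) (hb : lev x ≠ lev b) :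
    wPerm a b x = x := by
  rw [wPerm_apply h, if_neg, if_neg, if_neg, if_neg] <;>
    · intro e; subst e; simp [lev_bar] at ha hb

theorem W_sq {a b : I} (h : lev a ≠ lev b) : W E a b * W E a b = 1 := by
  rw [W, dif_pos h, ← QuotientGroup.mk_mul, QuotientGroup.eq_one_iff, Subgroup.mem_subgroupOf,
    Subgroup.coe_mul]
  have e : w E a b 1 * w E a b 1 = (DMult.h E a b (-1))⁻¹ := by
    rw [DMult.h, _root_.mul_inv_rev, ← w_inv E h one_ne_zero, inv_inv]
  rw [e]
  exact inv_mem (h_mem_That E h (neg_ne_zero.2 one_ne_zero))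

/-- The reflections of levels at least `k` generate a parabolic subgroup. -/
noncomputable def WL (k : ℕ) : Subgroup (WQ E) :=
  Subgroup.closure {q | ∃ a b, lev a ≠ lev b ∧ k ≤ lev a ∧ k ≤ lev b ∧ W E a b = q}

theorem W_mem_WL {k : ℕ} {a b : I} (h : lev a ≠ lev b) (ha : k ≤ lev a) (hb : k ≤ lev b) :
    W E a b ∈ WL E k :=
  Subgroup.subset_closure ⟨a, b, h, ha, hb, rfl⟩

theorem qperm_fix {k : ℕ} {q : WQ E} (hq : q ∈ WL E k) {x : I} (hx : lev x < k) : qperm E q x = x := by
  refine Subgroup.closure_induction ?_ ?_ ?_ ?_ hq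
  · rintro _ ⟨a, b, hab, ha, hb, rfl⟩
    rw [qperm_W E hab]
    exact wPerm_fix hab (by omega) (by omega)
  · simp
  · intro p q _ _ hp hq
    rw [map_mul, Equiv.Perm.mul_apply, hq, hp]
  · intro p _ hp
    rw [map_inv, Equiv.Perm.inv_eq_iff_eq, hp]

/-- Coset representatives of the parabolic subgroup of levels above `a`. -/
noncomputable def R (a c : I) : Set (WQ E) :=
  {r | r = 1 ∨ r = W E a (bar c) * W E a c ∨ ∃ y, lev a < lev y ∧ r = W E a y}

theorem R_step {k : ℕ} {a c y : I} (ha : lev a = k) (hc : k < lev c) (hy : k < lev y) {r : WQ E}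
    (hr : r ∈ R E a c) : ∃ r' ∈ R E a c, ∃ p ∈ WL E (k + 1), r * W E a y = r' * p := by
  have hay : lev a ≠ lev y := by omega
  have hac : lev a ≠ lev c := by omega
  have hayb : lev a ≠ lev (bar y) := by rw [lev_bar]; omega
  have hacb : lev a ≠ lev (bar c) := by rw [lev_bar]; omega
  rcases hr with rfl | rfl | ⟨x, hx, rfl⟩
  · exact ⟨_, Or.inr (Or.inr ⟨y, ha ▸ hy, rfl⟩), 1, one_mem _, by simp⟩
  · by_cases h1 : lev c = lev y
    · rcases lev_eq h1 with e | e
      · subst e
        exact ⟨_, Or.inr (Or.inr ⟨bar c, by rw [lev_bar]; omega, rfl⟩), 1, one_mem _,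
          by rw [mul_assoc, W_sq E hac]⟩
      · subst e
        refine ⟨_, Or.inr (Or.inr ⟨bar y, by rw [lev_bar]; omega, rfl⟩), 1, one_mem _, ?_⟩
        have key : W E a (bar y) * W E a y = W E a y * W E a (bar y) := by
          rw [W_conj E _ hay, qperm_W E hayb, wPerm_left hayb, bar_bar, wPerm_apply hayb,
            if_pos (bar_bar y).symm, W_symm E hay]
        rw [bar_bar, ← key, mul_assoc, W_sq E hay]
    · have hcy : lev y ≠ lev c := fun e => h1 e.symm
      refine ⟨_, Or.inr (Or.inr ⟨y, ha ▸ hy, rfl⟩), W E (bar y) (bar c) * W E (bar y) c,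
        mul_mem (W_mem_WL E (by rwa [lev_bar, lev_bar]) (by rw [lev_bar]; omega) (by rw [lev_bar]; omega))
          (W_mem_WL E (by rwa [lev_bar]) (by rw [lev_bar]; omega) (by omega)), ?_⟩
      have move : ∀ z, lev z ≠ lev a → lev z ≠ lev y →
          W E a z * W E a y = W E a y * W E (bar y) z := fun z hza hzy => by
        rw [W_conj E (W E a y) (show lev (bar y) ≠ lev z by rw [lev_bar]; exact hzy.symm), qperm_W E hay,
          wPerm_left_bar hay, wPerm_fix hay hza hzy]
      rw [mul_assoc, move c hac.symm h1, ← mul_assoc, move (bar c) hacb.symm (by rwa [lev_bar]), mul_assoc]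
  · have hax : lev a ≠ lev x := by omega
    by_cases h1 : lev x = lev y
    · rcases lev_eq h1 with e | e
      · subst e; exact ⟨1, Or.inl rfl, 1, one_mem _, by rw [W_sq E hax, one_mul]⟩
      · subst e
        by_cases h2 : lev c = lev y
        · refine ⟨_, Or.inr (Or.inl rfl), 1, one_mem _, ?_⟩
          rw [mul_one]
          rcases lev_eq h2 with e | e
          · subst e; rfl
          · subst e
            rw [bar_bar, W_conj E _ hay, qperm_W E hayb, wPerm_left hayb, bar_bar, wPerm_apply hayb,
              if_pos (bar_bar y).symm, W_symm E hay]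
        · have hyc : lev (bar y) ≠ lev (bar c) := by rw [lev_bar, lev_bar]; exact Ne.symm h2
          have hyc' : lev (bar y) ≠ lev c := by rw [lev_bar]; exact Ne.symm h2
          have hd : lev y ≠ lev c := Ne.symm h2
          refine ⟨_, Or.inr (Or.inl rfl), W E y c * W E y (bar c), mul_mem (W_mem_WL E hd (by omega)
            (by omega)) (W_mem_WL E (by rwa [lev_bar]) (by omega) (by rw [lev_bar]; omega)), ?_⟩
          have hdb : lev y ≠ lev (bar c) := by rwa [lev_bar]
          set g := W E y (bar c)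
          set d := W E a (bar c) * W E a c
          have gy : qperm E g y = c := by rw [qperm_W E hdb, wPerm_left hdb, bar_bar]
          have gyb : qperm E g (bar y) = bar c := by rw [qperm_bar, gy]
          have ga : qperm E g a = a := by
            rw [qperm_W E hdb]; exact wPerm_fix hdb hay hacb
          have key : W E a (bar y) * W E a y = g⁻¹ * d * g := by
            rw [mul_assoc, eq_inv_mul_iff_mul_eq, ← mul_assoc, W_conj E g hayb, mul_assoc,
              W_conj E g hay, ga, gyb, gy, ← mul_assoc]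
          have gd : g⁻¹ = g := inv_eq_of_mul_eq_one_right (W_sq E hdb)
          rw [key, gd]
          have dy : qperm E d y = y := by
            rw [map_mul, Equiv.Perm.mul_apply, qperm_W E hac, qperm_W E hacb,
              wPerm_fix hac hay.symm hd, wPerm_fix hacb hay.symm hdb]
          have dcb : qperm E d (bar c) = c := by
            rw [map_mul, Equiv.Perm.mul_apply, qperm_W E hac, qperm_W E hacb, wPerm_left_bar hac,
              wPerm_left hacb, bar_bar]
          have dc : qperm E d c = bar c := by rw [← bar_bar (qperm E d c), ← qperm_bar, dcb]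
          have mv : g * d = d * W E y c := by
            rw [W_conj E d hd, dy, dc]
          rw [mv, mul_assoc]
    · have hxy : lev x ≠ lev y := h1
      refine ⟨_, Or.inr (Or.inr ⟨y, ha ▸ hy, rfl⟩), W E (bar y) x,
        W_mem_WL E (by rw [lev_bar]; exact hxy.symm) (by rw [lev_bar]; omega) (by omega), ?_⟩
      rw [W_conj E (W E a y) (show lev (bar y) ≠ lev x by rw [lev_bar]; exact hxy.symm), qperm_W E hay,
        wPerm_left_bar hay, wPerm_fix hay hax.symm hxy]

theorem mem_step {k : ℕ} {a c : I} (ha : lev a = k) (hc : k < lev c) {q : WQ E} (hq : q ∈ WL E k) :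
    ∃ r ∈ R E a c, ∃ p ∈ WL E (k + 1), q = r * p := by
  have key : ∀ r ∈ R E a c, ∀ u v : I, lev u ≠ lev v → k ≤ lev u → k ≤ lev v →
      ∃ r' ∈ R E a c, ∃ p ∈ WL E (k + 1), r * W E u v = r' * p := by
    intro r hr u v huv hu hv
    by_cases h1 : lev u = k
    · rcases lev_eq (h1.trans ha.symm) with e | e
      · subst e; exact R_step E ha hc (by omega) hr
      · subst e
        rw [← W_bar E huv, bar_bar]
        exact R_step E ha hc (by rw [lev_bar]; omega) hr
    by_cases h2 : lev v = k
    · rw [W_symm E huv.symm]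
      rcases lev_eq (h2.trans ha.symm) with e | e
      · subst e; exact R_step E ha hc (by omega) hr
      · subst e
        rw [← W_bar E huv.symm, bar_bar]
        exact R_step E ha hc (by rw [lev_bar]; omega) hr
    exact ⟨r, hr, _, W_mem_WL E huv (by omega) (by omega), rfl⟩
  refine Subgroup.closure_induction_right (p := fun x _ => ∃ r ∈ R E a c, ∃ p ∈ WL E (k + 1), x = r * p)
    ⟨1, Or.inl rfl, 1, one_mem _, (one_mul _).symm⟩ ?_ ?_ hq
  · rintro x _ _ ⟨u, v, huv, hu, hv, rfl⟩ ⟨r, hr, p, hp, rfl⟩
    have hmon : ∀ z, lev (qperm E p z) ≥ k ↔ lev z ≥ k := fun z => by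
      constructor <;> intro h <;> by_contra hlt
      · rw [qperm_fix E hp (by omega)] at h; omega
      · have := qperm_fix E hp (x := qperm E p z) (by omega)
        rw [(qperm E p).injective this] at hlt; omega
    have hne : lev (qperm E p u) ≠ lev (qperm E p v) := fun e => by
      rcases lev_eq e with e | e
      · exact huv (by rw [(qperm E p).injective e])
      · rw [← qperm_bar] at e; exact huv (by rw [(qperm E p).injective e, lev_bar])
    obtain ⟨r', hr', p', hp', e⟩ := key r hr _ _ hne ((hmon u).2 hu) ((hmon v).2 hv)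
    exact ⟨r', hr', p' * p, mul_mem hp' hp, by
      rw [mul_assoc r, W_conj E p huv, ← mul_assoc, e, mul_assoc]⟩
  · rintro x _ _ ⟨u, v, huv, hu, hv, rfl⟩ ⟨r, hr, p, hp, rfl⟩
    rw [inv_eq_of_mul_eq_one_right (W_sq E huv)]
    have hmon : ∀ z, lev (qperm E p z) ≥ k ↔ lev z ≥ k := fun z => by
      constructor <;> intro h <;> by_contra hlt
      · rw [qperm_fix E hp (by omega)] at h; omega
      · have := qperm_fix E hp (x := qperm E p z) (by omega)
        rw [(qperm E p).injective this] at hlt; omega
    have hne : lev (qperm E p u) ≠ lev (qperm E p v) := fun e => by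
      rcases lev_eq e with e | e
      · exact huv (by rw [(qperm E p).injective e])
      · rw [← qperm_bar] at e; exact huv (by rw [(qperm E p).injective e, lev_bar])
    obtain ⟨r', hr', p', hp', e⟩ := key r hr _ _ hne ((hmon u).2 hu) ((hmon v).2 hv)
    exact ⟨r', hr', p' * p, mul_mem hp' hp, by
      rw [mul_assoc r, W_conj E p huv, ← mul_assoc, e, mul_assoc]⟩

/-- The Weyl quotient acts faithfully. -/
theorem qperm_inj {k : ℕ} {q : WQ E} (hq : q ∈ WL E k) (h1 : qperm E q = 1) : q = 1 := by
  obtain ⟨d, hd⟩ : ∃ d, n ≤ k + 1 + d := ⟨n, by omega⟩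
  induction d generalizing k q with
  | zero =>
    have : WL E k = ⊥ := by
      rw [WL, Subgroup.closure_eq_bot_iff]
      rintro _ ⟨a, b, hab, ha, hb, rfl⟩
      have := (levF a).isLt; have := (levF b).isLt
      rw [lev_levF] at *
      exact absurd (show lev a = lev b by omega) hab
    rwa [this, Subgroup.mem_bot] at hq
  | succ d ih =>
    by_cases hk : n ≤ k + 1 + d
    · exact ih hq h1 hk
    set a : I := Sum.inl ⟨k, by omega⟩
    set c : I := Sum.inl ⟨k + 1, by omega⟩
    have ha : lev a = k := rfl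
    have hc : k < lev c := Nat.lt_succ_self k
    obtain ⟨r, hr, p, hp, rfl⟩ := mem_step E ha hc hq
    have hra : qperm E r a = a := by
      have := congrArg (fun τ : Equiv.Perm I => τ a) h1
      simp only [map_mul, Equiv.Perm.mul_apply, Equiv.Perm.one_apply] at this
      rwa [qperm_fix E hp (by omega)] at this
    rcases hr with rfl | rfl | ⟨y, hy, rfl⟩
    · rw [one_mul] at h1 ⊢; exact ih hp h1 (by omega)
    · exfalso
      have hac : lev a ≠ lev c := by omega
      have hacb : lev a ≠ lev (bar c) := by rw [lev_bar]; omega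
      rw [map_mul, Equiv.Perm.mul_apply, qperm_W E hac, qperm_W E hacb, wPerm_left hac, wPerm_apply hacb,
        if_neg, if_neg, if_neg, if_pos rfl] at hra
      · exact bar_ne a hra
      · exact fun e => hac (by rw [← bar_inj e])
      · exact fun e => hacb (by rw [e])
      · exact fun e => bar_ne (bar c) e.symm
    · exfalso
      have hay : lev a ≠ lev y := by omega
      rw [qperm_W E hay, wPerm_left hay] at hra
      exact hay (by rw [← hra, lev_bar])

/-- The group generated by the Weyl elements. -/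
noncomputable def Ngp : Subgroup Γ :=
  Subgroup.closure {x | ∃ a b t, lev a ≠ lev b ∧ t ≠ 0 ∧ w E a b t = x}

theorem w_mem_Ngp {a b : I} (h : lev a ≠ lev b) {t : F} (ht : t ≠ 0) : w E a b t ∈ Ngp E :=
  Subgroup.subset_closure ⟨a, b, t, h, ht, rfl⟩

theorem Ngp_le : Ngp E ≤ monGroup E := by
  rw [Ngp, Subgroup.closure_le]
  rintro _ ⟨a, b, t, hab, ht, rfl⟩
  exact (w_mon E hab ht).mem E

theorem That_le_Ngp : That E ≤ Ngp E := by
  rw [That, Subgroup.closure_le]
  rintro _ ⟨a, b, t, hab, ht, rfl⟩
  exact mul_mem (w_mem_Ngp E hab ht) (w_mem_Ngp E hab (neg_ne_zero.2 one_ne_zero))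

/-- An element of the group of Weyl elements with trivial permutation lies in the torus. -/
theorem Ngp_trivial {x : Γ} (hx : x ∈ Ngp E) (h1 : IsMon E x 1) : x ∈ That E := by
  have key : (QuotientGroup.mk ⟨x, Ngp_le E hx⟩ : WQ E) ∈ WL E 0 := by
    refine Subgroup.closure_induction (p := fun y hy =>
      (QuotientGroup.mk ⟨y, Ngp_le E hy⟩ : WQ E) ∈ WL E 0) ?_ (one_mem _) ?_ ?_ hx
    · rintro _ ⟨a, b, t, hab, ht, rfl⟩
      rw [W_eq E hab ht _ rfl]
      exact W_mem_WL E hab (Nat.zero_le _) (Nat.zero_le _)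
    · exact fun x y hx hy hx' hy' => mul_mem hx' hy'
    · exact fun x hx hx' => inv_mem hx'
  have := qperm_inj E key (by rw [qperm_mk]; exact perm_eq E h1)
  exact Subgroup.mem_subgroupOf.1 ((QuotientGroup.eq_one_iff _).1 this)

end Cfsg.Agent.DMult
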